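import Groth.Agent.Lib.FlatCx.Exact
import Mathlib.Algebra.Category.ModuleCat.Descent
import Mathlib.CategoryTheory.Abelian.Exact
import Mathlib.RingTheory.LocalRing.ResidueField.Ideal

/-!
# `dim H_i(P ⊗ K)` does not change under field extensions
-/

universe u

noncomputable section

namespace GrothLib.FlatCx

open CategoryTheory CategoryTheory.Limits

variable {A : Type u} [CommRing A] {ι : Type} {c : ComplexShape ι}

/-- Base change in two steps. -/
def bcCxCompIso {B C : Type u} [CommRing B] [CommRing C] (f : A →+* B) (g : B →+* C)
    (P : HomologicalComplex (ModuleCat.{u} A) c) :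
    CohIII.bcCx (g.comp f) P ≅ CohIII.bcCx g (CohIII.bcCx f P) :=
  (NatIso.mapHomologicalComplex (ModuleCat.extendScalarsComp f g) c).app P

theorem finrank_homology_bcCx_field {K L : Type u} [Field K] [Field L] (f : A →+* K) (g : K →+* L)
    (P : HomologicalComplex (ModuleCat.{u} A) c) (i : ι) :
    Module.finrank L ((CohIII.bcCx (g.comp f) P).homology i) =
      Module.finrank K ((CohIII.bcCx f P).homology i) := by
  have hg : g.Flat := by
    letI := g.toAlgebra
    exact (inferInstance : Module.Flat K L)
  haveI := ModuleCat.preservesFiniteLimits_extendScalars_of_flat hg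
  haveI : (ModuleCat.extendScalars g).PreservesHomology :=
    Functor.preservesHomology_of_preservesEpis_and_kernels _
  have e := (HomologicalComplex.homologyMapIso (bcCxCompIso f g P) i) ≪≫
    ((CohIII.bcCx f P).sc i).mapHomologyIso (ModuleCat.extendScalars g)
  rw [e.toLinearEquiv.finrank_eq]
  letI := g.toAlgebra
  exact Module.finrank_baseChange

end GrothLib.FlatCx
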