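import Groth.Agent.Lib.FlatCx.Semi
import Groth.Agent.Lib.FlatCx.BaseChange
import Mathlib.LinearAlgebra.TensorProduct.RightExactness
import Mathlib.RingTheory.Flat.Stability
import Mathlib.RingTheory.Spectrum.Prime.FreeLocus

/-!
# Cokernels of the differentials under base change
-/

universe v u w

noncomputable section

namespace GrothLib.FlatCx

open TensorProduct CategoryTheory

variable {A : Type u} [CommRing A]

theorem range_baseChange_eq_ker {P : Type v} {Q : Type w} [AddCommGroup P] [Module A P]
    [AddCommGroup Q] [Module A Q] (l : P →ₗ[A] Q) (B : Type u) [CommRing B] [Algebra A B] :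
    LinearMap.range (l.baseChange B) = LinearMap.ker ((LinearMap.range l).mkQ.baseChange B) := by
  ext z
  exact (lTensor_exact B (LinearMap.exact_map_mkQ_range l) (Submodule.mkQ_surjective _) z).symm

/-- The cokernel of a base change is the base change of the cokernel. -/
def cokerBaseChange {P : Type v} {Q : Type w} [AddCommGroup P] [Module A P]
    [AddCommGroup Q] [Module A Q] (l : P →ₗ[A] Q) (B : Type u) [CommRing B] [Algebra A B] :
    ((B ⊗[A] Q) ⧸ LinearMap.range (l.baseChange B)) ≃ₗ[B] B ⊗[A] (Q ⧸ LinearMap.range l) :=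
  (Submodule.quotEquivOfEq _ _ (range_baseChange_eq_ker l B)).trans
    (((LinearMap.range l).mkQ.baseChange B).quotKerEquivOfSurjective
      (LinearMap.lTensor_surjective B (Submodule.mkQ_surjective _)))

theorem finrank_fiber_coker_add {P : Type v} {Q : Type w} [AddCommGroup P] [Module A P]
    [AddCommGroup Q] [Module A Q] [Module.Finite A Q] (l : P →ₗ[A] Q) (x : PrimeSpectrum A) :
    fiberRank l x + Module.finrank x.asIdeal.ResidueField
        (x.asIdeal.ResidueField ⊗[A] (Q ⧸ LinearMap.range l)) =
      Module.finrank x.asIdeal.ResidueField (x.asIdeal.ResidueField ⊗[A] Q) := by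
  rw [← (cokerBaseChange l x.asIdeal.ResidueField).finrank_eq]
  exact (add_comm _ _).trans (Submodule.finrank_quotient_add_finrank _)

variable {ι : Type} {c : ComplexShape ι} (P : HomologicalComplex (ModuleCat.{u} A) c)

theorem flat_bcCx_X {B : Type u} [CommRing B] (φ : A →+* B) [∀ i, Module.Flat A (P.X i)] (i : ι) :
    Module.Flat B ((CohIII.bcCx φ P).X i) := by
  letI := φ.toAlgebra
  exact inferInstanceAs (Module.Flat B (B ⊗[A] P.X i))

theorem preservesEpi_bcCx_iff {B : Type u} [CommRing B] [inst : Algebra A B]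
    [∀ i, Module.Flat A (P.X i)] (i : ι) :
    (CohIII.TFun (CohIII.bcCx (algebraMap A B) P) i).PreservesEpimorphisms ↔
      Module.Flat B (B ⊗[A] (P.X (c.next i) ⧸ LinearMap.range (P.d i (c.next i)).hom)) := by
  obtain ⟨φ, rfl⟩ : ∃ φ : A →+* B, inst = φ.toAlgebra :=
    ⟨algebraMap A B, Algebra.algebra_ext _ _ fun r => rfl⟩
  letI := φ.toAlgebra
  haveI : ∀ j, Module.Flat B ((CohIII.bcCx (algebraMap A B) P).X j) := flat_bcCx_X P _
  refine (preservesEpi_iff (CohIII.bcCx (algebraMap A B) P) i).trans ?_
  exact Module.Flat.equiv_iff (cokerBaseChange (P.d i (c.next i)).hom B)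

theorem preservesMono_bcCx_iff {B : Type u} [CommRing B] [inst : Algebra A B]
    [∀ i, Module.Flat A (P.X i)] (i : ι) :
    (CohIII.TFun (CohIII.bcCx (algebraMap A B) P) i).PreservesMonomorphisms ↔
      Module.Flat B (B ⊗[A] (P.X i ⧸ LinearMap.range (P.d (c.prev i) i).hom)) := by
  obtain ⟨φ, rfl⟩ : ∃ φ : A →+* B, inst = φ.toAlgebra :=
    ⟨algebraMap A B, Algebra.algebra_ext _ _ fun r => rfl⟩
  letI := φ.toAlgebra
  haveI : ∀ j, Module.Flat B ((CohIII.bcCx (algebraMap A B) P).X j) := flat_bcCx_X P _
  refine (preservesMono_iff (CohIII.bcCx (algebraMap A B) P) i).trans ?_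
  exact Module.Flat.equiv_iff (cokerBaseChange (P.d (c.prev i) i).hom B)

theorem setOf_flat_localization_eq_freeLocus (M : Type u) [AddCommGroup M] [Module A M]
    [Module.Finite A M] :
    {y : PrimeSpectrum A | Module.Flat (Localization.AtPrime y.asIdeal)
      (Localization.AtPrime y.asIdeal ⊗[A] M)} = Module.freeLocus A M := by
  ext y
  rw [Set.mem_setOf_eq, Module.mem_freeLocus_iff_tensor y (Localization.AtPrime y.asIdeal)]
  exact ⟨fun h => Module.free_of_flat_of_isLocalRing, fun h => inferInstance⟩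

end GrothLib.FlatCx
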