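import Groth.Agent.Lib.FlatCx.Local
import Mathlib.RingTheory.Finiteness.Projective
import Mathlib.RingTheory.Flat.EquationalCriterion

/-!
# Vanishing of `T_i`, and `H_i(P)` versus the cokernel of the incoming differential
-/

universe v u

noncomputable section

namespace GrothLib.FlatCx

open CategoryTheory TensorProduct MonoidalCategory CategoryTheory.Limits

section general

variable {A : Type u} [CommRing A] {ι : Type} {c : ComplexShape ι}
variable (P : HomologicalComplex (ModuleCat.{u} A) c)

/-- The map induced by `d : P_i → P_next` on the cokernel of the incoming differential. -/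
def dBar (i : ι) :
    (P.X i ⧸ LinearMap.range (P.d (c.prev i) i).hom) →ₗ[A] P.X (c.next i) :=
  Submodule.liftQ _ (P.d i (c.next i)).hom
    (LinearMap.range_le_ker_iff.2 (d_comp_d_hom P (c.prev i) i (c.next i)))

theorem dBar_mkQ (i : ι) :
    dBar P i ∘ₗ (LinearMap.range (P.d (c.prev i) i).hom).mkQ = (P.d i (c.next i)).hom :=
  Submodule.liftQ_mkQ _ _ _

/-- `T_i(M) = 0` iff `d̄ ⊗ M` is injective. -/
theorem isZero_T_iff (i : ι) (M : ModuleCat.{u} A) :
    IsZero ((CohIII.TFun P i).obj M) ↔ Function.Injective ((dBar P i).rTensor M) := by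
  let S := (CohIII.tensorObj P M).sc i
  set π := (LinearMap.range (P.d (c.prev i) i).hom).mkQ with hπ
  have hex : Function.Exact (dT P (c.prev i) i M) (π.rTensor M) :=
    rTensor_exact M (LinearMap.exact_map_mkQ_range _) (Submodule.mkQ_surjective _)
  have hc : ∀ z, (dBar P i).rTensor M (π.rTensor M z) = dT P i (c.next i) M z := fun z => by
    rw [← LinearMap.rTensor_comp_apply, dBar_mkQ]
  rw [ModuleCat.isZero_iff_subsingleton, injective_iff_map_eq_zero]
  constructor
  · intro h x hx
    obtain ⟨z, rfl⟩ := LinearMap.rTensor_surjective M (Submodule.mkQ_surjective _) x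
    rw [hc] at hx
    have h0 : scCls S ⟨z, hx⟩ = 0 :=
      @Subsingleton.elim _ (h : Subsingleton S.homology) _ _
    exact (hex z).2 ((scCls_eq_zero_iff S ⟨z, hx⟩).1 h0)
  · intro h
    have h0 : ∀ y : S.homology, y = 0 := by
      intro y
      obtain ⟨z, rfl⟩ := scCls_surjective S y
      refine (scCls_eq_zero_iff S z).2 ((hex _).1 (h _ ?_))
      exact (hc _).trans z.2
    exact (⟨fun a b => (h0 a).trans (h0 b).symm⟩ : Subsingleton S.homology)

/-- `T_i(A) ≅ H_i(P)`. -/
def TUnitIso (i : ι) : (CohIII.TFun P i).obj (ModuleCat.of A A) ≅ P.homology i :=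
  HomologicalComplex.homologyMapIso
    ((NatIso.mapHomologicalComplex (rightUnitorNatIso (ModuleCat.{u} A)) c).app P ≪≫
      (Functor.mapHomologicalComplexIdIso _ c).app P) i

theorem finite_homology [IsNoetherianRing A] (i : ι) [Module.Finite A (P.X i)] :
    Module.Finite A (P.homology i) := by
  haveI : Module.Finite A (P.sc i).X₂ := inferInstanceAs (Module.Finite A (P.X i))
  haveI : Module.Finite A (LinearMap.ker (P.sc i).g.hom) := inferInstance
  exact Module.Finite.of_surjective (scCls (P.sc i)) (scCls_surjective _)

end general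

section sc

variable {A : Type u} [CommRing A]

/-- If the image of `g` is projective, the homology of `X₁ → X₂ → X₃` is projective iff
`X₂ / range f` is. -/
theorem projective_homology_iff (S : ShortComplex (ModuleCat.{u} A))
    [Module.Projective A (LinearMap.range S.g.hom)] :
    Module.Projective A S.homology ↔ Module.Projective A (S.X₂ ⧸ LinearMap.range S.f.hom) := by
  set R := LinearMap.range S.f.hom
  have hker : LinearMap.ker (scCls S) = R.comap (LinearMap.ker S.g.hom).subtype := by
    ext z
    exact scCls_eq_zero_iff S z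
  have hle : R ≤ LinearMap.ker S.g.hom := by
    rintro _ ⟨y, rfl⟩
    exact S.moduleCat_zero_apply y
  let ι₀ : (LinearMap.ker S.g.hom ⧸ LinearMap.ker (scCls S)) →ₗ[A] S.X₂ ⧸ R :=
    Submodule.mapQ _ R (LinearMap.ker S.g.hom).subtype hker.le
  let e := (scCls S).quotKerEquivOfSurjective (scCls_surjective S)
  let q : (S.X₂ ⧸ R) →ₗ[A] LinearMap.range S.g.hom :=
    R.liftQ S.g.hom.rangeRestrict (by rwa [LinearMap.ker_rangeRestrict])
  have hq : Function.Surjective q := fun y => by
    obtain ⟨x, hx⟩ := LinearMap.surjective_rangeRestrict S.g.hom y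
    exact ⟨R.mkQ x, hx⟩
  have hι : Function.Injective ι₀ := by
    rw [injective_iff_map_eq_zero]
    intro x hx
    obtain ⟨z, rfl⟩ := Submodule.mkQ_surjective _ x
    refine (Submodule.Quotient.mk_eq_zero _).2 ?_
    rw [hker]
    exact (Submodule.Quotient.mk_eq_zero R).1 hx
  have hex : Function.Exact ι₀ q := by
    intro x
    obtain ⟨z, rfl⟩ := Submodule.mkQ_surjective _ x
    constructor
    · intro hz
      exact ⟨Submodule.Quotient.mk ⟨z, congrArg Subtype.val hz⟩, rfl⟩
    · rintro ⟨y, hy⟩
      obtain ⟨y, rfl⟩ := Submodule.mkQ_surjective _ y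
      rw [← hy]
      exact Subtype.ext y.2
  obtain ⟨s, hs⟩ := Module.projective_lifting_property q LinearMap.id hq
  let E := (hex.splitSurjectiveEquiv hι ⟨s, hs⟩).1
  constructor
  · intro h
    haveI : Module.Projective A (LinearMap.ker S.g.hom ⧸ LinearMap.ker (scCls S)) :=
      Module.Projective.of_equiv e.symm
    exact Module.Projective.of_equiv E.symm
  · intro h
    haveI : Module.Projective A ((LinearMap.ker S.g.hom ⧸ LinearMap.ker (scCls S)) ×
        LinearMap.range S.g.hom) := Module.Projective.of_equiv E
    haveI : Module.Projective A (LinearMap.ker S.g.hom ⧸ LinearMap.ker (scCls S)) :=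
      Module.Projective.of_split (LinearMap.inl A _ (LinearMap.range S.g.hom))
        (LinearMap.fst A _ (LinearMap.range S.g.hom))
        (LinearMap.ext fun _ => rfl)
    exact Module.Projective.of_equiv e

theorem projective_range_of_projective_coker {P Q : Type u} [AddCommGroup P] [Module A P]
    [AddCommGroup Q] [Module A Q] (g : P →ₗ[A] Q) [Module.Projective A Q]
    [Module.Projective A (Q ⧸ LinearMap.range g)] : Module.Projective A (LinearMap.range g) := by
  obtain ⟨s, hs⟩ := Module.projective_lifting_property (LinearMap.range g).mkQ LinearMap.id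
    (Submodule.mkQ_surjective _)
  let r : Q →ₗ[A] LinearMap.range g :=
    LinearMap.codRestrict _ (LinearMap.id - s ∘ₗ (LinearMap.range g).mkQ) fun x => by
      refine (Submodule.Quotient.mk_eq_zero (LinearMap.range g)).1 ?_
      show (LinearMap.range g).mkQ _ = 0
      have := LinearMap.congr_fun hs ((LinearMap.range g).mkQ x)
      simp only [LinearMap.comp_apply, LinearMap.id_apply] at this
      simp only [LinearMap.sub_apply, map_sub, LinearMap.id_apply, LinearMap.comp_apply, this,
        sub_self]
  refine Module.Projective.of_split (LinearMap.range g).subtype r ?_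
  refine LinearMap.ext fun x => Subtype.ext ?_
  have : (LinearMap.range g).mkQ (x : Q) = 0 := (Submodule.Quotient.mk_eq_zero _).2 x.2
  simp [r, this]

end sc

section int

variable {A : Type u} [CommRing A] (P : ChainComplex (ModuleCat.{u} A) ℤ)

theorem int_prev {p q : ℤ} (h : p + 1 = q) : (ComplexShape.down ℤ).prev p = q :=
  (ComplexShape.down ℤ).prev_eq' h

theorem int_next {p q : ℤ} (h : p + 1 = q) : (ComplexShape.down ℤ).next q = p :=
  (ComplexShape.down ℤ).next_eq' h

variable [∀ i, Module.Flat A (P.X i)]

theorem preservesMono_iff_preservesEpi_succ {p q : ℤ} (h : p + 1 = q) :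
    (CohIII.TFun P p).PreservesMonomorphisms ↔ (CohIII.TFun P q).PreservesEpimorphisms := by
  rw [preservesMono_iff P p, preservesEpi_iff P q, int_prev h, int_next h]

end int

end GrothLib.FlatCx

namespace GrothLib.FlatCx

open CategoryTheory CategoryTheory.Limits

variable {A : Type u} [CommRing A] [IsNoetherianRing A] [IsLocalRing A] {ι : Type}
  {c : ComplexShape ι} (P : HomologicalComplex (ModuleCat.{u} A) c)
  [∀ i, Module.Finite A (P.X i)] [∀ i, Module.Flat A (P.X i)]

/-- If `T_i` preserves epimorphisms, it preserves monomorphisms iff `T_i(A)` is free. -/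
theorem preservesMono_iff_free (i : ι) (he : (CohIII.TFun P i).PreservesEpimorphisms) :
    (CohIII.TFun P i).PreservesMonomorphisms ↔
      Module.Free A ((CohIII.TFun P i).obj (ModuleCat.of A A)) := by
  have hcf := (preservesEpi_iff P i).1 he
  haveI : Module.Projective A (P.X (c.next i) ⧸ LinearMap.range (P.d i (c.next i)).hom) :=
    haveI := Module.finitePresentation_of_finite A
      (P.X (c.next i) ⧸ LinearMap.range (P.d i (c.next i)).hom)
    Module.Flat.projective_of_finitePresentation
  haveI : Module.Projective A (P.X (c.next i)) :=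
    haveI := Module.finitePresentation_of_finite A (P.X (c.next i))
    Module.Flat.projective_of_finitePresentation
  haveI : Module.Projective A (LinearMap.range (P.sc i).g.hom) :=
    projective_range_of_projective_coker (P.d i (c.next i)).hom
  rw [preservesMono_iff P i]
  haveI := finite_homology P i
  haveI := Module.finitePresentation_of_finite A
    (P.X i ⧸ LinearMap.range (P.d (c.prev i) i).hom)
  constructor
  · intro h
    have hp : Module.Projective A (P.X i ⧸ LinearMap.range (P.d (c.prev i) i).hom) :=
      Module.Flat.projective_of_finitePresentation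
    have : Module.Projective A (P.homology i) := (projective_homology_iff (P.sc i)).2 hp
    haveI : Module.Free A (P.homology i) := Module.free_of_flat_of_isLocalRing
    exact Module.Free.of_equiv (TUnitIso P i).toLinearEquiv.symm
  · intro h
    haveI : Module.Free A (P.homology i) := Module.Free.of_equiv (TUnitIso P i).toLinearEquiv
    have : Module.Projective A (P.X i ⧸ LinearMap.range (P.d (c.prev i) i).hom) :=
      (projective_homology_iff (P.sc i)).1 (inferInstanceAs (Module.Projective A (P.homology i)))
    exact inferInstance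

end GrothLib.FlatCx

namespace GrothLib.FlatCx

open CategoryTheory

variable {A : Type u} [CommRing A] {ι : Type} {c : ComplexShape ι}
  (P : HomologicalComplex (ModuleCat.{u} A) c)

theorem homologyMap_eq_smul {S : ShortComplex (ModuleCat.{u} A)} (φ : S ⟶ S) (f : A)
    (h : ∀ z : S.X₂, φ.τ₂.hom z = f • z) (y : S.homology) :
    (ShortComplex.homologyMap φ).hom y = f • y := by
  obtain ⟨w, rfl⟩ := scCls_surjective S y
  rw [scCls_map, ← map_smul]
  exact congrArg _ (Subtype.ext (h w.1))

theorem whiskerLeft_smul_id (X M : ModuleCat.{u} A) (f : A) :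
    MonoidalCategory.whiskerLeft X (ModuleCat.ofHom (f • LinearMap.id : M →ₗ[A] M)) =
      f • 𝟙 (MonoidalCategory.tensorObj X M) := by
  rw [show ModuleCat.ofHom (f • LinearMap.id : M →ₗ[A] M) = f • 𝟙 M from rfl,
    MonoidalLinear.whiskerLeft_smul, MonoidalCategory.whiskerLeft_id]

theorem tau2_smul_id (i : ι) (M : ModuleCat.{u} A) (f : A) :
    ((HomologicalComplex.shortComplexFunctor _ c i).map
      (CohIII.tensorMap P (ModuleCat.ofHom (f • LinearMap.id : M →ₗ[A] M)))).τ₂ =
        f • 𝟙 (MonoidalCategory.tensorObj (P.X i) M) :=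
  whiskerLeft_smul_id (P.X i) M f

theorem map_smul_id (i : ι) (M : ModuleCat.{u} A) (f : A) (y : CohIII.T P i M) :
    ((CohIII.TFun P i).map (ModuleCat.ofHom (f • LinearMap.id : M →ₗ[A] M))).hom y = f • y :=
  homologyMap_eq_smul ((HomologicalComplex.shortComplexFunctor _ c i).map
    (CohIII.tensorMap P (ModuleCat.ofHom (f • LinearMap.id : M →ₗ[A] M)))) f
    (fun z => (congrArg (fun g => g.hom z) (tau2_smul_id P i M f)).trans rfl) y

end GrothLib.FlatCx
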