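import Mathlib.RingTheory.Flat.Equalizer
import Mathlib.RingTheory.Flat.Tensor
import Mathlib.LinearAlgebra.TensorProduct.RightExactness

/-!
# Flatness in short exact sequences
-/

universe u

namespace GrothLib.FlatCx

open LinearMap

variable {A : Type u} [CommRing A] {K C R : Type u} [AddCommGroup K] [Module A K]
  [AddCommGroup C] [Module A C] [AddCommGroup R] [Module A R]
  {g : K →ₗ[A] C} {f : C →ₗ[A] R}

/-- A short exact sequence with flat third term stays exact on the left after tensoring. -/
theorem rTensor_injective_of_flat [Module.Flat A R] (hg : Function.Injective g)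
    (hf : Function.Surjective f) (H : Function.Exact g f)
    (M : Type u) [AddCommGroup M] [Module A M] : Function.Injective (g.rTensor M) :=
  (LinearMap.lTensor_inj_iff_rTensor_inj M g).1
    (LinearMap.lTensor_injective_of_exact_of_flat f hf g hg H M)

/-- The kernel of a surjection between flat modules is flat. -/
theorem flat_of_exact_left [Module.Flat A C] [Module.Flat A R] (hg : Function.Injective g)
    (hf : Function.Surjective f) (H : Function.Exact g f) : Module.Flat A K := by
  rw [Module.Flat.iff_lTensor_preserves_injective_linearMap]
  intro M N _ _ _ _ i hi a b hab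
  refine rTensor_injective_of_flat hg hf H M
    (Module.Flat.lTensor_preserves_injective_linearMap i hi ?_)
  rw [← comp_apply, ← comp_apply, lTensor_comp_rTensor, ← rTensor_comp_lTensor,
    comp_apply, comp_apply, hab]

/-- An extension of flat modules is flat. -/
theorem flat_of_exact_mid [Module.Flat A K] [Module.Flat A R] (hg : Function.Injective g)
    (hf : Function.Surjective f) (H : Function.Exact g f) : Module.Flat A C := by
  rw [Module.Flat.iff_lTensor_preserves_injective_linearMap]
  intro M N _ _ _ _ i hi
  rw [injective_iff_map_eq_zero]
  intro x hx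
  have h1 : f.rTensor M x = 0 := by
    refine Module.Flat.lTensor_preserves_injective_linearMap (M := R) i hi ?_
    rw [← comp_apply, lTensor_comp_rTensor, ← rTensor_comp_lTensor, comp_apply, hx, map_zero,
      map_zero]
  obtain ⟨y, rfl⟩ := (rTensor_exact M H hf x).1 h1
  have h2 : g.rTensor N (i.lTensor K y) = 0 := by
    rw [← hx, ← comp_apply, ← comp_apply, lTensor_comp_rTensor, rTensor_comp_lTensor]
  have h3 : i.lTensor K y = 0 := rTensor_injective_of_flat hg hf H N (h2.trans (map_zero _).symm)
  rw [(injective_iff_map_eq_zero _).1 (Module.Flat.lTensor_preserves_injective_linearMap i hi) y h3,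
    map_zero]

/-- A submodule with flat quotient of a flat module is flat. -/
theorem flat_of_flat_quotient {Q : Type u} [AddCommGroup Q] [Module A Q] [Module.Flat A Q]
    (S : Submodule A Q) [Module.Flat A (Q ⧸ S)] : Module.Flat A S :=
  flat_of_exact_left (g := S.subtype) (f := S.mkQ) Subtype.val_injective S.mkQ_surjective
    (LinearMap.exact_subtype_mkQ S)

/-- A kernel is flat if source and image are. -/
theorem flat_ker_of_flat_range (f : C →ₗ[A] R) [Module.Flat A C] [Module.Flat A (range f)] :
    Module.Flat A (ker f) :=
  flat_of_exact_left (g := (ker f).subtype) (f := f.rangeRestrict) Subtype.val_injective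
    f.surjective_rangeRestrict (fun x => by simp [Subtype.ext_iff])

/-- A source is flat if kernel and image are. -/
theorem flat_of_flat_ker_range (f : C →ₗ[A] R) [Module.Flat A (ker f)]
    [Module.Flat A (range f)] : Module.Flat A C :=
  flat_of_exact_mid (g := (ker f).subtype) (f := f.rangeRestrict) Subtype.val_injective
    f.surjective_rangeRestrict (fun x => by simp [Subtype.ext_iff])

end GrothLib.FlatCx
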