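import Groth.Agent.Lib.FlatCx.Exact
import Mathlib.RingTheory.LocalRing.Module
import Mathlib.RingTheory.Finiteness.Basic

/-!
# `T_i` over a local ring: epimorphisms are preserved iff `T_i(A) → T_i(k)` is surjective
-/

universe v u

noncomputable section

namespace GrothLib.FlatCx

open CategoryTheory TensorProduct IsLocalRing

variable {A : Type u} [CommRing A] [IsLocalRing A] {ι : Type} {c : ComplexShape ι}
variable (P : HomologicalComplex (ModuleCat.{u} A) c)

/-- The reduction map `A → k`. -/
abbrev resMap : ModuleCat.of A A ⟶ ModuleCat.of A (ResidueField A) :=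
  ModuleCat.ofHom (Algebra.linearMap A (ResidueField A))

theorem resMap_surjective : Function.Surjective (resMap (A := A)).hom :=
  IsLocalRing.residue_surjective

variable [∀ i, Module.Flat A (P.X i)]

theorem subtype_comp_rr {X Y : Type u} [AddCommGroup X] [Module A X] [AddCommGroup Y] [Module A Y]
    (f : X →ₗ[A] Y) : (LinearMap.range f).subtype ∘ₗ f.rangeRestrict = f :=
  LinearMap.ext fun _ => rfl

/-- If `T_i(A) → T_i(k)` is surjective then `coker (P_i → P_next)` is free. -/
theorem free_coker_of_surjective (i : ι) [Module.Finite A (P.X i)]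
    [Module.Finite A (P.X (c.next i))]
    (h : Function.Surjective ((CohIII.TFun P i).map (resMap (A := A))).hom) :
    Module.Free A (P.X (c.next i) ⧸ LinearMap.range (P.d i (c.next i)).hom) := by
  haveI : Module.Free A (P.X (c.next i)) := Module.free_of_flat_of_isLocalRing
  set d := (P.d i (c.next i)).hom with hd
  refine Module.free_of_lTensor_residueField_injective (LinearMap.range d).subtype
    (LinearMap.range d).mkQ (Submodule.mkQ_surjective _) (LinearMap.exact_subtype_mkQ _) ?_
  rw [LinearMap.lTensor_inj_iff_rTensor_inj, injective_iff_map_eq_zero]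
  intro x hx
  obtain ⟨z, rfl⟩ := LinearMap.rTensor_surjective (ResidueField A)
    (LinearMap.surjective_rangeRestrict d) x
  have hz : dT P i (c.next i) (ResidueField A) z = 0 := by
    rw [← hx, ← LinearMap.rTensor_comp_apply, subtype_comp_rr]
  obtain ⟨w, hw, v, hv⟩ := (surjective_map_iff P i (resMap (A := A))).1 h z hz
  have e : z = (resMap (A := A)).hom.lTensor (P.X i) w -
      dT P (c.prev i) i (ResidueField A) v :=
    eq_sub_of_add_eq' (eq_sub_iff_add_eq.1 hv)
  have h1 : d.rangeRestrict.rTensor (ResidueField A) ((resMap (A := A)).hom.lTensor (P.X i) w) =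
      0 := by
    rw [← rTensor_lTensor_comm]
    have hw' : d.rangeRestrict.rTensor A w = 0 := by
      apply (injective_iff_map_eq_zero _).1 (Module.Flat.rTensor_preserves_injective_linearMap
        (M := A) (LinearMap.range d).subtype Subtype.val_injective)
      rw [← LinearMap.rTensor_comp_apply, subtype_comp_rr]
      exact hw
    exact (congrArg _ hw').trans (map_zero _)
  have h2 : d.rangeRestrict ∘ₗ (P.d (c.prev i) i).hom = 0 := by
    refine LinearMap.ext fun y => Subtype.ext ?_
    exact LinearMap.congr_fun (d_comp_d_hom P (c.prev i) i (c.next i)) y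
  rw [e, map_sub, h1, ← LinearMap.rTensor_comp_apply, h2, LinearMap.rTensor_zero,
    LinearMap.zero_apply, sub_zero]

/-- Over a local ring, for finite flat terms, `T_i` preserves epimorphisms iff
`T_i(A) → T_i(k)` is surjective. -/
theorem preservesEpi_iff_surjective_resMap (i : ι) [Module.Finite A (P.X i)]
    [Module.Finite A (P.X (c.next i))] :
    (CohIII.TFun P i).PreservesEpimorphisms ↔
      Function.Surjective ((CohIII.TFun P i).map (resMap (A := A))).hom := by
  constructor
  · exact fun h => (preservesEpi_iff_surjective _).1 h _ _ _ resMap_surjective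
  · intro h
    haveI := free_coker_of_surjective P i h
    exact (preservesEpi_iff P i).2 inferInstance

end GrothLib.FlatCx
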