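import Groth.Agent.Lib.FlatCx.Exact
import Mathlib.RingTheory.Spectrum.Prime.FreeLocus
import Mathlib.LinearAlgebra.Matrix.NonsingularInverse
import Mathlib.RingTheory.Finiteness.Projective
import Mathlib.RingTheory.LocalRing.ResidueField.Ideal
import Mathlib.LinearAlgebra.Dimension.StrongRankCondition
import Mathlib.Topology.Semicontinuity.Basic

/-!
# Fibre ranks: the rank of `l ⊗ κ(x)` is lower semicontinuous, `dim H_p(P ⊗ κ(x))` is upper
semicontinuous
-/

universe v u w

noncomputable section

namespace GrothLib.FlatCx

open CategoryTheory TensorProduct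

/-- The rank of `l ⊗ κ(x)`. -/
def fiberRank {A : Type u} [CommRing A] {P : Type v} {Q : Type w} [AddCommGroup P] [Module A P]
    [AddCommGroup Q] [Module A Q] (l : P →ₗ[A] Q) (x : PrimeSpectrum A) : ℕ :=
  Module.finrank x.asIdeal.ResidueField (LinearMap.range (l.baseChange x.asIdeal.ResidueField))

theorem eventually_fiberRank_ge {A : Type u} [CommRing A] {P : Type v} {Q : Type w}
    [AddCommGroup P] [Module A P] [AddCommGroup Q] [Module A Q] [Module.Finite A Q]
    [Module.Projective A Q] (l : P →ₗ[A] Q) (x : PrimeSpectrum A) :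
    ∀ᶠ y in nhds x, fiberRank l x ≤ fiberRank l y := by
  classical
  obtain ⟨N, π, ι, -, -, hπι⟩ := Module.Finite.exists_comp_eq_id_of_projective A Q
  -- the coordinate embedding of each fibre
  let Φ : ∀ y : PrimeSpectrum A,
      y.asIdeal.ResidueField ⊗[A] Q →ₗ[y.asIdeal.ResidueField] (Fin N → y.asIdeal.ResidueField) :=
    fun y => LinearMap.pi fun n => (AlgebraTensorModule.rid A y.asIdeal.ResidueField
      y.asIdeal.ResidueField).toLinearMap ∘ₗ
        ((LinearMap.proj n ∘ₗ ι : Q →ₗ[A] A).baseChange y.asIdeal.ResidueField)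
  have hΦt : ∀ y s q n, Φ y (s ⊗ₜ[A] q) n = algebraMap A y.asIdeal.ResidueField (ι q n) * s := by
    intro y s q n
    simp [Φ, Algebra.smul_def]
  have hΦ : ∀ y, Function.Injective (Φ y) := by
    intro y
    let Ψ : (Fin N → y.asIdeal.ResidueField) →ₗ[y.asIdeal.ResidueField]
        y.asIdeal.ResidueField ⊗[A] Q :=
      Fintype.linearCombination y.asIdeal.ResidueField fun n =>
        (1 : y.asIdeal.ResidueField) ⊗ₜ[A] π (Pi.single n 1)
    have : Ψ ∘ₗ Φ y = LinearMap.id := by
      refine LinearMap.ext fun z => ?_
      induction z using TensorProduct.induction_on with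
      | zero => simp
      | add z z' hz hz' => simp only [map_add, hz, hz']
      | tmul s q =>
        have hq : q = ∑ n, ι q n • π (Pi.single n 1) := by
          conv_lhs => rw [← LinearMap.id_apply (R := A) q, ← hπι, LinearMap.comp_apply,
            pi_eq_sum_univ' (ι q), map_sum]
          simp only [map_smul]
        simp only [LinearMap.comp_apply, LinearMap.id_apply, Ψ, Fintype.linearCombination_apply,
          hΦt]
        conv_rhs => rw [hq, TensorProduct.tmul_sum]
        refine Finset.sum_congr rfl fun n _ => ?_
        rw [TensorProduct.tmul_smul, TensorProduct.smul_tmul', TensorProduct.smul_tmul',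
          smul_eq_mul, mul_one, Algebra.smul_def]
    exact Function.LeftInverse.injective (g := Ψ) (fun z => LinearMap.congr_fun this z)
  -- choose `r` elements of `P`
  let S : Set (x.asIdeal.ResidueField ⊗[A] Q) :=
    Set.range fun p : P => (1 : x.asIdeal.ResidueField) ⊗ₜ[A] l p
  have hS : Submodule.span x.asIdeal.ResidueField S =
      LinearMap.range (l.baseChange x.asIdeal.ResidueField) := by
    refine le_antisymm (Submodule.span_le.2 ?_) ?_
    · rintro _ ⟨p, rfl⟩
      exact ⟨1 ⊗ₜ p, by simp⟩
    · rintro _ ⟨z, rfl⟩
      induction z using TensorProduct.induction_on with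
      | zero => simp
      | add z z' hz hz' => rw [map_add]; exact add_mem hz hz'
      | tmul s p =>
        rw [LinearMap.baseChange_tmul, ← mul_one s, ← smul_eq_mul, ← TensorProduct.smul_tmul']
        exact Submodule.smul_mem _ _ (Submodule.subset_span ⟨p, rfl⟩)
  obtain ⟨f, hfS, -, hf⟩ := Submodule.exists_fun_fin_finrank_span_eq x.asIdeal.ResidueField S
  choose p hp using hfS
  -- the coordinate matrix over `A`
  let M := fun j n => ι (l (p j)) n
  have hcol : ∃ c : Fin (Module.finrank x.asIdeal.ResidueField
      (Submodule.span x.asIdeal.ResidueField S)) → Fin N, IsUnit (Matrix.of fun j k =>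
      algebraMap A x.asIdeal.ResidueField (M j (c k))) := by
    let V : Fin N → (Fin (Module.finrank x.asIdeal.ResidueField
        (Submodule.span x.asIdeal.ResidueField S)) → x.asIdeal.ResidueField) :=
      fun n j => algebraMap A x.asIdeal.ResidueField (M j n)
    have hrows : LinearIndependent x.asIdeal.ResidueField fun j => Φ x (f j) :=
      hf.map' (Φ x) (LinearMap.ker_eq_bot.2 (hΦ x))
    have hspan : Submodule.span x.asIdeal.ResidueField (Set.range V) = ⊤ := by
      by_contra hne
      obtain ⟨φ, hφ0, hφ⟩ := Submodule.exists_dual_map_eq_bot_of_lt_top (lt_top_iff_ne_top.2 hne)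
        inferInstance
      apply hφ0
      have hzero : ∀ j, φ (Pi.single j 1) = 0 := by
        refine Fintype.linearIndependent_iff.1 hrows (fun j => φ (Pi.single j 1)) (funext fun n => ?_)
        have hV : φ (V n) = 0 := by
          have : φ (V n) ∈ Submodule.map φ (Submodule.span x.asIdeal.ResidueField (Set.range V)) :=
            Submodule.mem_map_of_mem (Submodule.subset_span ⟨n, rfl⟩)
          rwa [hφ, Submodule.mem_bot] at this
        rw [pi_eq_sum_univ' (V n), map_sum] at hV
        simp only [Finset.sum_apply, Pi.smul_apply, Pi.zero_apply, smul_eq_mul]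
        refine Eq.trans (Finset.sum_congr rfl fun j _ => ?_) hV
        rw [map_smul, smul_eq_mul, ← hp j, hΦt, mul_one, mul_comm]
      exact (Pi.basisFun x.asIdeal.ResidueField _).ext fun j => by simpa using hzero j
    obtain ⟨g, hg, -, hgli⟩ := Submodule.exists_fun_fin_finrank_span_eq x.asIdeal.ResidueField (Set.range V)
    choose c hc using hg
    have hn : Module.finrank x.asIdeal.ResidueField
        (Submodule.span x.asIdeal.ResidueField S) = Module.finrank x.asIdeal.ResidueField
        (Submodule.span x.asIdeal.ResidueField (Set.range V)) := by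
      rw [hspan, finrank_top, Module.finrank_fintype_fun_eq_card, Fintype.card_fin]
    refine ⟨c ∘ Fin.cast hn, ?_⟩
    rw [← Matrix.isUnit_transpose, ← Matrix.linearIndependent_rows_iff_isUnit]
    have h := hgli.comp (Fin.cast hn) (Fin.cast_injective hn)
    have e : (Matrix.of fun j k =>
        algebraMap A x.asIdeal.ResidueField (M j ((c ∘ Fin.cast hn) k))).transpose.row =
        g ∘ Fin.cast hn := by
      funext k j
      simp [Matrix.row, ← hc, V]
    rw [e]
    exact h
  obtain ⟨c, hc⟩ := hcol
  let d : A := (Matrix.of fun j k => M j (c k)).det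
  have hd : ∀ y : PrimeSpectrum A, algebraMap A y.asIdeal.ResidueField d =
      (Matrix.of fun j k => algebraMap A y.asIdeal.ResidueField (M j (c k))).det := fun y =>
    RingHom.map_det _ _
  have hdx : d ∉ x.asIdeal := by
    rw [← Ideal.algebraMap_residueField_eq_zero, hd]
    exact ((Matrix.isUnit_iff_isUnit_det _).1 hc).ne_zero
  filter_upwards [(PrimeSpectrum.basicOpen d).isOpen.mem_nhds hdx] with y hy
  have hy' : d ∉ y.asIdeal := hy
  have hdy : IsUnit (Matrix.of fun j k => algebraMap A y.asIdeal.ResidueField (M j (c k))) := by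
    rw [Matrix.isUnit_iff_isUnit_det, ← hd, isUnit_iff_ne_zero, ne_eq,
      Ideal.algebraMap_residueField_eq_zero]
    exact hy'
  have hli : LinearIndependent y.asIdeal.ResidueField
      fun j => (1 : y.asIdeal.ResidueField) ⊗ₜ[A] l (p j) := by
    refine LinearIndependent.of_comp
      (LinearMap.funLeft y.asIdeal.ResidueField y.asIdeal.ResidueField c ∘ₗ Φ y) ?_
    convert Matrix.linearIndependent_rows_iff_isUnit.2 hdy using 1
    funext j k
    simp [hΦt, M, Matrix.row, LinearMap.funLeft]
  haveI : Module.Finite y.asIdeal.ResidueField (y.asIdeal.ResidueField ⊗[A] Q) := inferInstance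
  have hmem : ∀ j, (1 : y.asIdeal.ResidueField) ⊗ₜ[A] l (p j) ∈
      LinearMap.range (l.baseChange y.asIdeal.ResidueField) := fun j => ⟨1 ⊗ₜ p j, by simp⟩
  have h1 := (LinearIndependent.of_comp
    (v := fun j => (⟨_, hmem j⟩ : LinearMap.range (l.baseChange y.asIdeal.ResidueField)))
    (Submodule.subtype _) hli).fintype_card_le_finrank
  rw [Fintype.card_fin, hS] at h1
  exact h1

theorem eventually_finrank_fiber_eq {A : Type u} [CommRing A] {P : Type v} [AddCommGroup P]
    [Module A P] [Module.FinitePresentation A P] [Module.Flat A P] (x : PrimeSpectrum A) :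
    ∀ᶠ y in nhds x, Module.finrank y.asIdeal.ResidueField (y.asIdeal.ResidueField ⊗[A] P) =
      Module.finrank x.asIdeal.ResidueField (x.asIdeal.ResidueField ⊗[A] P) := by
  filter_upwards [(Module.isLocallyConstant_rankAtStalk (R := A) (M := P)).eventually_eq x]
    with y hy
  have hy' := hy
  rw [Module.rankAtStalk_eq, Module.rankAtStalk_eq] at hy'
  exact hy'

section dRank

variable {A : Type u} [CommRing A] {ι : Type} {c : ComplexShape ι}
variable (P : HomologicalComplex (ModuleCat.{u} A) c)

theorem finrank_homology_add {K : Type u} [Field K] [inst : Algebra A K] (i : ι)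
    [hfin : Module.Finite A (P.X i)] :
    Module.finrank K ((CohIII.bcCx (algebraMap A K) P).homology i) +
      Module.finrank K (LinearMap.range ((P.d (c.prev i) i).hom.baseChange K)) +
      Module.finrank K (LinearMap.range ((P.d i (c.next i)).hom.baseChange K)) =
        Module.finrank K (K ⊗[A] (P.X i)) := by
  obtain ⟨φ, rfl⟩ : ∃ φ : A →+* K, inst = φ.toAlgebra :=
    ⟨algebraMap A K, Algebra.algebra_ext _ _ fun r => rfl⟩
  letI := φ.toAlgebra
  show Module.finrank K ((CohIII.bcCx φ P).homology i) + _ + _ = _
  let S := (CohIII.bcCx φ P).sc i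
  haveI : Module.Finite K S.X₂ := inferInstanceAs (Module.Finite K (K ⊗[A] P.X i))
  have h1 := (LinearMap.ker S.g.hom).subtype
  have hker : LinearMap.ker (scCls S) =
      Submodule.comap (LinearMap.ker S.g.hom).subtype (LinearMap.range S.f.hom) := by
    ext z
    exact scCls_eq_zero_iff S z
  have hle : LinearMap.range S.f.hom ≤ LinearMap.ker S.g.hom := by
    rintro _ ⟨y, rfl⟩
    exact S.moduleCat_zero_apply y
  have e1 := (scCls S).finrank_range_add_finrank_ker
  rw [LinearMap.range_eq_top.2 (scCls_surjective S), finrank_top, hker,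
    (Submodule.comapSubtypeEquivOfLe hle).finrank_eq] at e1
  have e2 := S.g.hom.finrank_range_add_finrank_ker
  have e3 : Module.finrank K S.homology = Module.finrank K ((CohIII.bcCx φ P).homology i) := rfl
  have e4 : Module.finrank K (LinearMap.range S.f.hom) =
      Module.finrank K (LinearMap.range ((P.d (c.prev i) i).hom.baseChange K)) := rfl
  have e5 : Module.finrank K (LinearMap.range S.g.hom) =
      Module.finrank K (LinearMap.range ((P.d i (c.next i)).hom.baseChange K)) := rfl
  have e6 : Module.finrank K S.X₂ = Module.finrank K (K ⊗[A] P.X i) := rfl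
  omega

theorem dRank_add (i : ι) (x : PrimeSpectrum A) [Module.Finite A (P.X i)] :
    CohIII.dRank P i x + fiberRank (P.d (c.prev i) i).hom x +
      fiberRank (P.d i (c.next i)).hom x =
        Module.finrank x.asIdeal.ResidueField (x.asIdeal.ResidueField ⊗[A] (P.X i)) :=
  finrank_homology_add P i

theorem upperSemicontinuous_dRank (hP : ∀ i, Module.Finite A (P.X i) ∧ Module.Projective A (P.X i))
    (i : ι) : UpperSemicontinuous (CohIII.dRank P i) := by
  intro x y hxy
  have hfi : Module.Finite A (P.X i) := (hP i).1
  have hpi : Module.Projective A (P.X i) := (hP i).2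
  have hfn : Module.Finite A (P.X (c.next i)) := (hP _).1
  have hpn : Module.Projective A (P.X (c.next i)) := (hP _).2
  haveI : Module.FinitePresentation A (P.X i) := Module.finitePresentation_of_projective A (P.X i)
  filter_upwards [eventually_fiberRank_ge (P.d (c.prev i) i).hom x,
    eventually_fiberRank_ge (P.d i (c.next i)).hom x,
    eventually_finrank_fiber_eq (A := A) (P := P.X i) x] with z h1 h2 h3
  have ex := dRank_add P i x
  have ez := dRank_add P i z
  omega

end dRank

end GrothLib.FlatCx
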