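import Groth.Agent.Lib.FlatCx.Exact
import Mathlib.Algebra.Homology.HomologySequence
import Mathlib.Algebra.Homology.HomologicalComplexAbelian

/-!
# The long exact sequence of `M ↦ H_i(P ⊗ M)`
-/

universe u

noncomputable section

namespace GrothLib.FlatCx

open CategoryTheory MonoidalCategory

variable {A : Type u} [CommRing A] {ι : Type} {c : ComplexShape ι}
  (P : HomologicalComplex (ModuleCat.{u} A) c)

/-- `P ⊗ S` for a short complex `S` of modules. -/
def tensorSC (S : ShortComplex (ModuleCat.{u} A)) :
    ShortComplex (HomologicalComplex (ModuleCat.{u} A) c) :=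
  ShortComplex.mk (CohIII.tensorMap P S.f) (CohIII.tensorMap P S.g) (by
    ext i : 1
    show MonoidalCategory.whiskerLeft (P.X i) S.f ≫ MonoidalCategory.whiskerLeft (P.X i) S.g = 0
    rw [← MonoidalCategory.whiskerLeft_comp, S.zero, MonoidalPreadditive.whiskerLeft_zero])

variable [∀ i, Module.Flat A (P.X i)]

theorem tensorSC_shortExact {S : ShortComplex (ModuleCat.{u} A)} (hS : S.ShortExact) :
    (tensorSC P S).ShortExact := by
  refine HomologicalComplex.shortExact_of_degreewise_shortExact _ fun i => ?_
  exact
    { exact := (ShortComplex.ShortExact.moduleCat_exact_iff_function_exact _).2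
        (lTensor_exact (P.X i) ((ShortComplex.ShortExact.moduleCat_exact_iff_function_exact S).1
          hS.exact) hS.moduleCat_surjective_g)
      mono_f := (ModuleCat.mono_iff_injective _).2
        (Module.Flat.lTensor_preserves_injective_linearMap S.f.hom hS.moduleCat_injective_f)
      epi_g := (ModuleCat.epi_iff_surjective _).2
        (LinearMap.lTensor_surjective _ hS.moduleCat_surjective_g) }

variable {S : ShortComplex (ModuleCat.{u} A)} (hS : S.ShortExact)

/-- The connecting map `T_i(X₃) → T_j(X₁)`. -/
def Tδ (i j : ι) (hij : c.Rel i j) :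
    (CohIII.TFun P i).obj S.X₃ ⟶ (CohIII.TFun P j).obj S.X₁ :=
  (tensorSC_shortExact P hS).δ i j hij

theorem T_exact₁ (i j : ι) (hij : c.Rel i j) :
    Function.Exact (Tδ P hS i j hij).hom ((CohIII.TFun P j).map S.f).hom :=
  (ShortComplex.ShortExact.moduleCat_exact_iff_function_exact _).1
    ((tensorSC_shortExact P hS).homology_exact₁ i j hij)

theorem T_exact₃ (i j : ι) (hij : c.Rel i j) :
    Function.Exact ((CohIII.TFun P i).map S.g).hom (Tδ P hS i j hij).hom :=
  (ShortComplex.ShortExact.moduleCat_exact_iff_function_exact _).1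
    ((tensorSC_shortExact P hS).homology_exact₃ i j hij)

end GrothLib.FlatCx
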