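import Groth.Agent.Lib.FlatCx.Misc
import Groth.Agent.Lib.FlatCx.FlatSES

/-!
# `H_i(P ⊗ M)` as the kernel of `d̄ ⊗ M`
-/

universe u

noncomputable section

namespace GrothLib.FlatCx

open CategoryTheory MonoidalCategory TensorProduct

variable {A : Type u} [CommRing A] {ι : Type} {c : ComplexShape ι}
  (P : HomologicalComplex (ModuleCat.{u} A) c)

/-- The cokernel of the incoming differential. -/
abbrev cokIn (i : ι) : Type u := P.X i ⧸ LinearMap.range (P.d (c.prev i) i).hom

/-- The projection onto `cokIn`. -/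
abbrev cokInπ (i : ι) : P.X i →ₗ[A] cokIn P i := (LinearMap.range (P.d (c.prev i) i).hom).mkQ

theorem cokInπ_exact (i : ι) (M : Type u) [AddCommGroup M] [Module A M] :
    Function.Exact (dT P (c.prev i) i M) ((cokInπ P i).rTensor M) :=
  rTensor_exact M (LinearMap.exact_map_mkQ_range _) (Submodule.mkQ_surjective _)

theorem dBar_rTensor_cokInπ (i : ι) (M : Type u) [AddCommGroup M] [Module A M]
    (z : TensorProduct A (P.X i) M) :
    (dBar P i).rTensor M ((cokInπ P i).rTensor M z) = dT P i (c.next i) M z := by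
  rw [← LinearMap.rTensor_comp_apply, dBar_mkQ]

/-- The class map into `ker (d̄ ⊗ M)`. -/
def cycToKer (i : ι) (M : ModuleCat.{u} A) :
    LinearMap.ker ((CohIII.tensorObj P M).sc i).g.hom →ₗ[A]
      LinearMap.ker ((dBar P i).rTensor M) :=
  LinearMap.codRestrict _
    ((cokInπ P i).rTensor M ∘ₗ (LinearMap.ker ((CohIII.tensorObj P M).sc i).g.hom).subtype)
    fun z => LinearMap.mem_ker.2 ((dBar_rTensor_cokInπ P i M _).trans z.2)

theorem ker_cycToKer (i : ι) (M : ModuleCat.{u} A) :
    LinearMap.ker (scCls ((CohIII.tensorObj P M).sc i)) = LinearMap.ker (cycToKer P i M) := by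
  ext z
  rw [LinearMap.mem_ker, scCls_eq_zero_iff, LinearMap.mem_ker, ← Subtype.val_inj]
  exact (cokInπ_exact P i M z.1).symm

theorem cycToKer_surjective (i : ι) (M : ModuleCat.{u} A) :
    Function.Surjective (cycToKer P i M) := by
  rintro ⟨x, hx⟩
  obtain ⟨z, rfl⟩ := LinearMap.rTensor_surjective M (Submodule.mkQ_surjective _) x
  exact ⟨⟨z, (dBar_rTensor_cokInπ P i M z).symm.trans hx⟩, rfl⟩

section generic

variable {S : ShortComplex (ModuleCat.{u} A)} {K : Type u} [AddCommGroup K] [Module A K]

/-- Homology through a surjection out of the cycles with the same kernel as `scCls`. -/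
def clsEquiv (f : LinearMap.ker S.g.hom →ₗ[A] K) (hk : LinearMap.ker (scCls S) = LinearMap.ker f)
    (hs : Function.Surjective f) : S.homology ≃ₗ[A] K :=
  ((scCls S).quotKerEquivOfSurjective (scCls_surjective S)).symm ≪≫ₗ
    Submodule.quotEquivOfEq _ _ hk ≪≫ₗ f.quotKerEquivOfSurjective hs

theorem clsEquiv_apply (f : LinearMap.ker S.g.hom →ₗ[A] K)
    (hk : LinearMap.ker (scCls S) = LinearMap.ker f) (hs : Function.Surjective f)
    (z : LinearMap.ker S.g.hom) : clsEquiv f hk hs (scCls S z) = f z := by
  have h : ((scCls S).quotKerEquivOfSurjective (scCls_surjective S)).symm (scCls S z) =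
      Submodule.Quotient.mk z := by
    rw [LinearEquiv.symm_apply_eq]; rfl
  rw [clsEquiv, LinearEquiv.trans_apply, LinearEquiv.trans_apply, h]
  rfl

end generic

/-- `H_i(P ⊗ M) ≅ ker (d̄ ⊗ M)`. -/
def TKerEquiv (i : ι) (M : ModuleCat.{u} A) :
    ((CohIII.tensorObj P M).sc i).homology ≃ₗ[A] LinearMap.ker ((dBar P i).rTensor M) :=
  clsEquiv (S := (CohIII.tensorObj P M).sc i) (K := LinearMap.ker ((dBar P i).rTensor M))
    (cycToKer P i M) (ker_cycToKer P i M) (cycToKer_surjective P i M)

theorem TKerEquiv_cls (i : ι) (M : ModuleCat.{u} A)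
    (z : LinearMap.ker ((CohIII.tensorObj P M).sc i).g.hom) :
    TKerEquiv P i M (scCls _ z) = cycToKer P i M z := by
  delta TKerEquiv
  apply clsEquiv_apply

theorem range_dBar (i : ι) :
    LinearMap.range (dBar P i) = LinearMap.range (P.d i (c.next i)).hom := by
  unfold dBar
  exact Submodule.range_liftQ _ _ _

theorem TKerEquiv_map (i : ι) {M N : ModuleCat.{u} A} (g : M ⟶ N) (y : CohIII.T P i M) :
    (TKerEquiv P i N (((CohIII.TFun P i).map g).hom y) : TensorProduct A (cokIn P i) N) =
      g.hom.lTensor (cokIn P i) (TKerEquiv P i M y) := by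
  let S := (CohIII.tensorObj P M).sc i
  let T := (CohIII.tensorObj P N).sc i
  let φ : S ⟶ T := (HomologicalComplex.shortComplexFunctor _ c i).map (CohIII.tensorMap P g)
  obtain ⟨w, rfl⟩ := scCls_surjective S y
  have key : ((CohIII.TFun P i).map g).hom (scCls S w) =
      scCls T ⟨φ.τ₂.hom w, map_mem_ker φ w⟩ := scCls_map φ w
  rw [key, TKerEquiv_cls, TKerEquiv_cls]
  exact (rTensor_lTensor_comm (cokInπ P i) g.hom w.1).symm

/-- `T_i(A) ≅ ker d̄`. -/
def TUnitKerEquiv (i : ι) :
    CohIII.T P i (ModuleCat.of A A) ≃ₗ[A] LinearMap.ker (dBar P i) :=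
  TKerEquiv P i (ModuleCat.of A A) ≪≫ₗ
    ((TensorProduct.rid A (cokIn P i)).submoduleMap _ ≪≫ₗ
      LinearEquiv.ofEq _ _ (by
        ext x
        have hc : ∀ y : TensorProduct A (cokIn P i) A, dBar P i (TensorProduct.rid A _ y) =
            TensorProduct.rid A _ ((dBar P i).rTensor A y) := fun y => by
          induction y using TensorProduct.induction_on with
          | zero => simp
          | tmul m a => simp
          | add a b ha hb => simp [ha, hb]
        constructor
        · rintro ⟨y, hy, rfl⟩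
          exact LinearMap.mem_ker.2 ((hc y).trans (by rw [LinearMap.mem_ker.1 hy, map_zero]))
        · intro hx
          refine ⟨(TensorProduct.rid A _).symm x, LinearMap.mem_ker.2 ?_,
            LinearEquiv.apply_symm_apply _ x⟩
          apply (TensorProduct.rid A _).injective
          rw [← hc, LinearEquiv.apply_symm_apply, map_zero]
          exact hx))

variable [∀ i, Module.Flat A (P.X i)]

theorem flat_range_of_epi (i : ι) (h : (CohIII.TFun P i).PreservesEpimorphisms) :
    Module.Flat A (LinearMap.range (dBar P i)) := by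
  haveI := (preservesEpi_iff P i).1 h
  rw [range_dBar]
  exact flat_of_flat_quotient _

/-- If `T_i` is exact then `T_i(A)` is flat. -/
theorem flat_T_self (i : ι) (hm : (CohIII.TFun P i).PreservesMonomorphisms)
    (he : (CohIII.TFun P i).PreservesEpimorphisms) :
    Module.Flat A (CohIII.T P i (ModuleCat.of A A)) := by
  haveI := (preservesMono_iff P i).1 hm
  haveI := flat_range_of_epi P i he
  haveI := flat_ker_of_flat_range (dBar P i)
  exact Module.Flat.of_linearEquiv (TUnitKerEquiv P i)

/-- The comparison `ker d̄ ⊗ M → ker (d̄ ⊗ M)`. -/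
def kerCmp (i : ι) (M : Type u) [AddCommGroup M] [Module A M] :
    TensorProduct A (LinearMap.ker (dBar P i)) M →ₗ[A] LinearMap.ker ((dBar P i).rTensor M) :=
  LinearMap.codRestrict _ ((LinearMap.ker (dBar P i)).subtype.rTensor M) fun z => by
    rw [LinearMap.mem_ker, ← LinearMap.rTensor_comp_apply, LinearMap.comp_ker_subtype,
      LinearMap.rTensor_zero, LinearMap.zero_apply]

theorem kerCmp_bijective (i : ι) (h : (CohIII.TFun P i).PreservesEpimorphisms)
    (M : Type u) [AddCommGroup M] [Module A M] : Function.Bijective (kerCmp P i M) := by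
  haveI := flat_range_of_epi P i h
  set δ := dBar P i
  have hex : Function.Exact (LinearMap.ker δ).subtype δ.rangeRestrict :=
    fun x => by simp [Subtype.ext_iff]
  refine ⟨fun a b hab => rTensor_injective_of_flat Subtype.val_injective
    δ.surjective_rangeRestrict hex M (congrArg Subtype.val hab), ?_⟩
  rintro ⟨x, hx⟩
  haveI := (preservesEpi_iff P i).1 h
  have hq : Module.Flat A (P.X (c.next i) ⧸ LinearMap.range δ) :=
    Module.Flat.of_linearEquiv (Submodule.quotEquivOfEq _ _ (range_dBar P i))
  have hinj := rTensor_injective_of_flat (g := (LinearMap.range δ).subtype)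
    (f := (LinearMap.range δ).mkQ) Subtype.val_injective (Submodule.mkQ_surjective _)
    (LinearMap.exact_subtype_mkQ _) M
  have h0 : δ.rangeRestrict.rTensor M x = 0 := hinj (by
    rw [← LinearMap.rTensor_comp_apply, map_zero]; exact hx)
  obtain ⟨z, rfl⟩ := (rTensor_exact M hex δ.surjective_rangeRestrict x).1 h0
  exact ⟨z, rfl⟩

/-- If `T_i` preserves epimorphisms it is `ker d̄ ⊗ -`. -/
def TFunIsoTensor (i : ι) (h : (CohIII.TFun P i).PreservesEpimorphisms) :
    CohIII.TFun P i ≅ tensorLeft (ModuleCat.of A (LinearMap.ker (dBar P i))) :=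
  Iso.symm <| NatIso.ofComponents
    (fun M => ((LinearEquiv.ofBijective (kerCmp P i M) (kerCmp_bijective P i h M)) ≪≫ₗ
      (TKerEquiv P i M).symm).toModuleIso)
    fun {M N} g => by
      ext z
      apply (TKerEquiv P i N).injective
      apply Subtype.ext
      refine Eq.trans ?_ (TKerEquiv_map P i g _).symm
      simp only [Functor.comp_obj]
      erw [LinearEquiv.apply_symm_apply, LinearEquiv.apply_symm_apply]
      exact (rTensor_lTensor_comm (LinearMap.ker (dBar P i)).subtype g.hom z).symm

/-- Exactness in the middle. -/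
theorem T_mid_exact (i : ι) (S : ShortComplex (ModuleCat.{u} A)) (hS : S.ShortExact) :
    Function.Exact ((CohIII.TFun P i).map S.f).hom ((CohIII.TFun P i).map S.g).hom := by
  have hex : Function.Exact S.f.hom S.g.hom :=
    (ShortComplex.ShortExact.moduleCat_exact_iff_function_exact S).1 hS.exact
  have hsurj : Function.Surjective S.g.hom := hS.moduleCat_surjective_g
  have hinj : Function.Injective S.f.hom := hS.moduleCat_injective_f
  intro y
  constructor
  · intro hy
    obtain ⟨w, rfl⟩ := scCls_surjective _ y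
    let φ := (HomologicalComplex.shortComplexFunctor _ c i).map (CohIII.tensorMap P S.g)
    have h1 : S.g.hom.lTensor (P.X i) w.1 ∈
        LinearMap.range (dT P (c.prev i) i S.X₃) :=
      (scCls_eq_zero_iff _ _).1 ((scCls_map φ w).symm.trans hy)
    obtain ⟨v, hv⟩ := h1
    obtain ⟨v, rfl⟩ := LinearMap.lTensor_surjective _ hsurj v
    rw [← rTensor_lTensor_comm] at hv
    obtain ⟨w', hw'⟩ : ∃ w' : TensorProduct A (P.X i) S.X₂, w' = w.1 := ⟨_, rfl⟩
    have hv' : S.g.hom.lTensor (P.X i) (dT P (c.prev i) i S.X₂ v) =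
        S.g.hom.lTensor (P.X i) w' := by rw [hw']; exact hv
    have h2 : S.g.hom.lTensor (P.X i) (w' - dT P (c.prev i) i S.X₂ v) = 0 := by
      rw [map_sub, hv', sub_self]
    obtain ⟨z, hz⟩ := (lTensor_exact (P.X i) hex hsurj _).1 h2
    have hcyc : dT P i (c.next i) S.X₁ z = 0 := by
      apply (injective_iff_map_eq_zero _).1
        (Module.Flat.lTensor_preserves_injective_linearMap S.f.hom hinj)
      rw [rTensor_lTensor_comm, hz, map_sub]
      have hw : dT P i (c.next i) S.X₂ w' = 0 := by rw [hw']; exact w.2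
      rw [hw, ← LinearMap.comp_apply (dT P i (c.next i) S.X₂), ← LinearMap.rTensor_comp,
        d_comp_d_hom, LinearMap.rTensor_zero, LinearMap.zero_apply, sub_zero]
    refine ⟨scCls _ ⟨z, hcyc⟩, ?_⟩
    refine (scCls_map ((HomologicalComplex.shortComplexFunctor _ c i).map
      (CohIII.tensorMap P S.f)) ⟨z, hcyc⟩).trans ((scCls_eq_iff _ _ _).2 ?_)
    refine ⟨-v, ?_⟩
    have h3 : dT P (c.prev i) i S.X₂ (-v) = S.f.hom.lTensor (P.X i) z - w' := by
      rw [map_neg, hz]; abel
    exact h3.trans (congrArg (fun q => S.f.hom.lTensor (P.X i) z - q) hw')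
  · rintro ⟨x, rfl⟩
    obtain ⟨w, rfl⟩ := scCls_surjective _ x
    apply (TKerEquiv P i S.X₃).injective
    apply Subtype.ext
    refine ((TKerEquiv_map P i S.g _).trans ?_).trans
      (congrArg Subtype.val (map_zero (TKerEquiv P i S.X₃))).symm
    refine (congrArg (S.g.hom.lTensor _) (TKerEquiv_map P i S.f _)).trans ?_
    rw [← LinearMap.lTensor_comp_apply, hex.linearMap_comp_eq_zero, LinearMap.lTensor_zero]
    rfl

end GrothLib.FlatCx
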