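import Groth.Agent.Lib.FlatCx.Coker
import Groth.Agent.Lib.FlatCx.Ker

/-!
# Homology of a base change as the kernel of `d̄` after base change
-/

universe u

noncomputable section

namespace GrothLib.FlatCx

open CategoryTheory TensorProduct

variable {A : Type u} [CommRing A] {ι : Type} {c : ComplexShape ι}
  (P : HomologicalComplex (ModuleCat.{u} A) c)

theorem nonempty_homology_bcCx_equiv {B : Type u} [CommRing B] [inst : Algebra A B] (i : ι) :
    Nonempty ((CohIII.bcCx (algebraMap A B) P).homology i ≃ₗ[B]
      LinearMap.ker ((dBar P i).baseChange B)) := by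
  obtain ⟨φ, rfl⟩ : ∃ φ : A →+* B, inst = φ.toAlgebra :=
    ⟨algebraMap A B, Algebra.algebra_ext _ _ fun r => rfl⟩
  letI := φ.toAlgebra
  let S := (CohIII.bcCx φ P).sc i
  have hexact : ∀ z : B ⊗[A] P.X i,
      (cokInπ P i).baseChange B z = 0 ↔
        z ∈ LinearMap.range ((P.d (c.prev i) i).hom.baseChange B) := fun z =>
    lTensor_exact B (LinearMap.exact_map_mkQ_range _) (Submodule.mkQ_surjective _) z
  have hc : ∀ z : B ⊗[A] P.X i, (dBar P i).baseChange B ((cokInπ P i).baseChange B z) =
      (P.d i (c.next i)).hom.baseChange B z := fun z => by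
    rw [← LinearMap.comp_apply, ← LinearMap.baseChange_comp, dBar_mkQ]
  let f : LinearMap.ker S.g.hom →ₗ[B] LinearMap.ker ((dBar P i).baseChange B) :=
    LinearMap.codRestrict _ ((cokInπ P i).baseChange B ∘ₗ (LinearMap.ker S.g.hom).subtype)
      fun z => LinearMap.mem_ker.2 ((hc _).trans z.2)
  have hk : LinearMap.ker (scCls S) = LinearMap.ker f := by
    ext z
    rw [LinearMap.mem_ker, scCls_eq_zero_iff, LinearMap.mem_ker, ← Subtype.val_inj]
    exact (hexact z.1).symm
  have hs : Function.Surjective f := by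
    rintro ⟨x, hx⟩
    obtain ⟨z, rfl⟩ := LinearMap.lTensor_surjective B
      (g := cokInπ P i) (Submodule.mkQ_surjective _) x
    exact ⟨⟨z, (hc z).symm.trans hx⟩, rfl⟩
  let e : S.homology ≃ₗ[B] LinearMap.ker ((dBar P i).baseChange B) :=
    clsEquiv (S := S) (K := LinearMap.ker ((dBar P i).baseChange B)) f hk hs
  exact ⟨e⟩

theorem finrank_homology_bcCx_eq_ker {K : Type u} [Field K] [Algebra A K] (i : ι) :
    Module.finrank K ((CohIII.bcCx (algebraMap A K) P).homology i) =
      Module.finrank K (LinearMap.ker ((dBar P i).baseChange K)) :=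
  let ⟨e⟩ := nonempty_homology_bcCx_equiv P i
  e.finrank_eq

/-- The comparison `B ⊗ ker d̄ → ker (B ⊗ d̄)`. -/
def kerCmpBC (B : Type u) [CommRing B] [Algebra A B] (i : ι) :
    B ⊗[A] LinearMap.ker (dBar P i) →ₗ[B] LinearMap.ker ((dBar P i).baseChange B) :=
  LinearMap.codRestrict _ ((LinearMap.ker (dBar P i)).subtype.baseChange B) fun z => by
    rw [LinearMap.mem_ker, ← LinearMap.comp_apply, ← LinearMap.baseChange_comp,
      LinearMap.comp_ker_subtype, LinearMap.baseChange_zero, LinearMap.zero_apply]

theorem kerCmpBC_injective (B : Type u) [CommRing B] [Algebra A B] (i : ι)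
    [Module.Flat A (LinearMap.range (dBar P i))] : Function.Injective (kerCmpBC P B i) :=
  fun _ _ hab => (LinearMap.lTensor_inj_iff_rTensor_inj B (LinearMap.ker (dBar P i)).subtype).2
    (rTensor_injective_of_flat Subtype.val_injective (dBar P i).surjective_rangeRestrict
      (fun x => by simp [Subtype.ext_iff]) B) (congrArg Subtype.val hab)

variable [∀ i, Module.Flat A (P.X i)]

theorem kerCmpBC_bijective (B : Type u) [CommRing B] [Algebra A B] (i : ι)
    (h : (CohIII.TFun P i).PreservesEpimorphisms) : Function.Bijective (kerCmpBC P B i) := by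
  haveI := flat_range_of_epi P i h
  refine ⟨kerCmpBC_injective P B i, ?_⟩
  rintro ⟨x, hx⟩
  haveI := (preservesEpi_iff P i).1 h
  set δ := dBar P i
  have hq : Module.Flat A (P.X (c.next i) ⧸ LinearMap.range δ) :=
    Module.Flat.of_linearEquiv (Submodule.quotEquivOfEq _ _ (range_dBar P i))
  have hinj : Function.Injective ((LinearMap.range δ).subtype.lTensor B) :=
    LinearMap.lTensor_injective_of_exact_of_flat (LinearMap.range δ).mkQ
      (Submodule.mkQ_surjective _) _ Subtype.val_injective (LinearMap.exact_subtype_mkQ _) B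
  have h0 : δ.rangeRestrict.lTensor B x = 0 := hinj (by
    rw [← LinearMap.lTensor_comp_apply, map_zero]; exact hx)
  have hex : Function.Exact (LinearMap.ker δ).subtype δ.rangeRestrict :=
    fun x => by simp [Subtype.ext_iff]
  obtain ⟨z, rfl⟩ := (lTensor_exact B hex δ.surjective_rangeRestrict x).1 h0
  exact ⟨z, rfl⟩

theorem finrank_homology_bcCx_of_epi {K : Type u} [Field K] [Algebra A K] (i : ι)
    (h : (CohIII.TFun P i).PreservesEpimorphisms) :
    Module.finrank K ((CohIII.bcCx (algebraMap A K) P).homology i) =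
      Module.finrank K (K ⊗[A] LinearMap.ker (dBar P i)) := by
  rw [finrank_homology_bcCx_eq_ker,
    (LinearEquiv.ofBijective _ (kerCmpBC_bijective P K i h)).finrank_eq]

end GrothLib.FlatCx
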