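import Mathlib.RingTheory.Length
import Mathlib.Algebra.Homology.ShortComplex.ModuleCat
import Mathlib.CategoryTheory.Preadditive.AdditiveFunctor

/-!
# Lengths along half-exact functors
-/

universe u

namespace GrothLib.FlatCx

open CategoryTheory

section lin

variable {B : Type u} [Ring B] {X Y Z : Type u} [AddCommGroup X] [Module B X] [AddCommGroup Y]
  [Module B Y] [AddCommGroup Z] [Module B Z] {f : X →ₗ[B] Y} {g : Y →ₗ[B] Z}

theorem length_eq_ker_add_range (g : Y →ₗ[B] Z) :
    Module.length B Y = Module.length B (LinearMap.ker g) + Module.length B (LinearMap.range g) :=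
  Module.length_eq_add_of_exact (LinearMap.ker g).subtype g.rangeRestrict Subtype.val_injective
    g.surjective_rangeRestrict (fun x => by simp [Subtype.ext_iff])

theorem length_le_add_of_exact (h : Function.Exact f g) :
    Module.length B Y ≤ Module.length B X + Module.length B Z := by
  rw [length_eq_ker_add_range g, h.linearMap_ker_eq]
  exact add_le_add (Module.length_le_of_surjective f.rangeRestrict f.surjective_rangeRestrict)
    (Module.length_le_of_injective (LinearMap.range g).subtype Subtype.val_injective)

theorem length_eq_add_iff (h : Function.Exact f g) (hX : Module.length B X ≠ ⊤)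
    (hZ : Module.length B Z ≠ ⊤) :
    Module.length B Y = Module.length B X + Module.length B Z ↔
      Function.Injective f ∧ Function.Surjective g := by
  refine ⟨fun e => ?_, fun hfg => Module.length_eq_add_of_exact f g hfg.1 hfg.2 h⟩
  have e1 := length_eq_ker_add_range g
  rw [h.linearMap_ker_eq] at e1
  have e2 := length_eq_ker_add_range f
  have e3 : Module.length B Z =
      Module.length B (LinearMap.range g) + Module.length B (Z ⧸ LinearMap.range g) :=
    Module.length_eq_add_of_exact (LinearMap.range g).subtype (LinearMap.range g).mkQ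
      Subtype.val_injective (Submodule.mkQ_surjective _) (LinearMap.exact_subtype_mkQ _)
  obtain ⟨a, ha⟩ := WithTop.ne_top_iff_exists.1
    (show Module.length B (LinearMap.range f) ≠ ⊤ from fun h0 => hX (by rw [e2, h0, add_top]))
  obtain ⟨b, hb⟩ := WithTop.ne_top_iff_exists.1
    (show Module.length B (LinearMap.range g) ≠ ⊤ from fun h0 => hZ (by rw [e3, h0, top_add]))
  obtain ⟨k, hk⟩ := WithTop.ne_top_iff_exists.1
    (show Module.length B (LinearMap.ker f) ≠ ⊤ from fun h0 => hX (by rw [e2, h0, top_add]))
  obtain ⟨c, hc⟩ := WithTop.ne_top_iff_exists.1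
    (show Module.length B (Z ⧸ LinearMap.range g) ≠ ⊤ from fun h0 => hZ (by rw [e3, h0, add_top]))
  have ha' : Module.length B (LinearMap.range f) = (a : ℕ∞) := ha.symm
  have hb' : Module.length B (LinearMap.range g) = (b : ℕ∞) := hb.symm
  have hk' : Module.length B (LinearMap.ker f) = (k : ℕ∞) := hk.symm
  have hc' : Module.length B (Z ⧸ LinearMap.range g) = (c : ℕ∞) := hc.symm
  rw [e1, e2, e3, ha', hb', hk', hc'] at e
  norm_cast at e
  have k0 : k = 0 := by omega
  have c0 : c = 0 := by omega
  subst k0; subst c0
  constructor
  · rw [← LinearMap.ker_eq_bot, ← Submodule.subsingleton_iff_eq_bot, ← Module.length_eq_zero_iff (R := B)]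
    exact hk'
  · rw [← LinearMap.range_eq_top, ← Submodule.Quotient.subsingleton_iff,
      ← Module.length_eq_zero_iff (R := B)]
    exact hc'

end lin

section functor

variable {A B : Type u} [Ring A] [Ring B] (F : ModuleCat.{u} A ⥤ ModuleCat.{u} B) [F.Additive]
  (hF : ∀ S : ShortComplex (ModuleCat.{u} A), S.ShortExact → (S.map F).Exact)

/-- The short complex `N → M → M/N`. -/
noncomputable def subQuot {M : Type u} [AddCommGroup M] [Module A M] (N : Submodule A M) :
    ShortComplex (ModuleCat.{u} A) :=
  ShortComplex.mk (ModuleCat.ofHom N.subtype) (ModuleCat.ofHom N.mkQ)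
    (ModuleCat.hom_ext (LinearMap.exact_subtype_mkQ N).linearMap_comp_eq_zero)

theorem subQuot_shortExact {M : Type u} [AddCommGroup M] [Module A M] (N : Submodule A M) :
    (subQuot N).ShortExact :=
  { exact := (ShortComplex.ShortExact.moduleCat_exact_iff_function_exact _).2
      (LinearMap.exact_subtype_mkQ N)
    mono_f := (ModuleCat.mono_iff_injective _).2 Subtype.val_injective
    epi_g := (ModuleCat.epi_iff_surjective _).2 N.mkQ_surjective }

include hF in
theorem length_obj_ne_top (hS : ∀ M : ModuleCat.{u} A, IsSimpleModule A M →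
      Module.length B (F.obj M) ≠ ⊤)
    {E : Type u} [AddCommGroup E] [Module A E] (hE : IsFiniteLength A E) :
    Module.length B (F.obj (ModuleCat.of A E)) ≠ ⊤ := by
  induction hE with
  | @of_subsingleton E _ _ _ =>
    have hz : Limits.IsZero (F.obj (ModuleCat.of A E)) :=
      F.map_isZero (ModuleCat.isZero_of_subsingleton _)
    haveI := ModuleCat.subsingleton_of_isZero hz
    rw [Module.length_eq_zero]
    exact ENat.zero_ne_top
  | @of_simple_quotient E _ _ N' _ _ ih =>
    have h := (ShortComplex.ShortExact.moduleCat_exact_iff_function_exact _).1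
      (hF _ (subQuot_shortExact N'))
    refine ne_top_of_le_ne_top ?_ (length_le_add_of_exact h)
    exact WithTop.add_ne_top.2 ⟨ih, hS (ModuleCat.of A (E ⧸ N')) inferInstance⟩

include hF in
theorem length_obj_le {d : ℕ∞} (hS : ∀ M : ModuleCat.{u} A, IsSimpleModule A M →
      Module.length B (F.obj M) ≤ d)
    {E : Type u} [AddCommGroup E] [Module A E] (hE : IsFiniteLength A E) :
    Module.length B (F.obj (ModuleCat.of A E)) ≤ d * Module.length A E := by
  induction hE with
  | @of_subsingleton E _ _ _ =>
    have hz : Limits.IsZero (F.obj (ModuleCat.of A E)) :=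
      F.map_isZero (ModuleCat.isZero_of_subsingleton _)
    haveI := ModuleCat.subsingleton_of_isZero hz
    rw [Module.length_eq_zero]
    exact zero_le
  | @of_simple_quotient E _ _ N' _ _ ih =>
    have h := (ShortComplex.ShortExact.moduleCat_exact_iff_function_exact _).1
      (hF _ (subQuot_shortExact N'))
    refine le_trans (length_le_add_of_exact h) ?_
    rw [Module.length_eq_add_of_exact N'.subtype N'.mkQ Subtype.val_injective N'.mkQ_surjective
      (LinearMap.exact_subtype_mkQ N'), mul_add, Module.length_eq_one (R := A) (M := E ⧸ N'),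
      mul_one]
    exact add_le_add ih (hS (ModuleCat.of A (E ⧸ N')) inferInstance)

theorem length_obj_eq
    (hex : ∀ S : ShortComplex (ModuleCat.{u} A), S.ShortExact → (S.map F).ShortExact)
    {d : ℕ∞} (hS : ∀ M : ModuleCat.{u} A, IsSimpleModule A M →
      Module.length B (F.obj M) = d)
    {E : Type u} [AddCommGroup E] [Module A E] (hE : IsFiniteLength A E) :
    Module.length B (F.obj (ModuleCat.of A E)) = d * Module.length A E := by
  induction hE with
  | @of_subsingleton E _ _ _ =>
    have hz : Limits.IsZero (F.obj (ModuleCat.of A E)) :=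
      F.map_isZero (ModuleCat.isZero_of_subsingleton _)
    haveI := ModuleCat.subsingleton_of_isZero hz
    rw [Module.length_eq_zero, Module.length_eq_zero, mul_zero]
  | @of_simple_quotient E _ _ N' _ _ ih =>
    have hse := hex _ (subQuot_shortExact N')
    have h := (ShortComplex.ShortExact.moduleCat_exact_iff_function_exact _).1 hse.exact
    refine (Module.length_eq_add_of_exact _ _ hse.moduleCat_injective_f
      hse.moduleCat_surjective_g h).trans ?_
    rw [Module.length_eq_add_of_exact N'.subtype N'.mkQ Subtype.val_injective N'.mkQ_surjective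
      (LinearMap.exact_subtype_mkQ N'), mul_add, Module.length_eq_one (R := A) (M := E ⧸ N'),
      mul_one]
    exact congrArg₂ (· + ·) ih (hS (ModuleCat.of A (E ⧸ N')) inferInstance)

end functor

end GrothLib.FlatCx
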