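import Groth.Agent.Lib.FlatCx.Artin
import Groth.Agent.Lib.FlatCx.Len

/-!
# Lengths of `T_i` over Artinian local rings
-/

universe u

noncomputable section

namespace GrothLib.FlatCx

open CategoryTheory IsLocalRing

variable {A : Type u} [CommRing A] {ι : Type} {c : ComplexShape ι}
  (P : HomologicalComplex (ModuleCat.{u} A) c)

instance TFun_additive (i : ι) : (CohIII.TFun P i).Additive where
  map_add {M N f g} := by
    ext y
    apply (TKerEquiv P i N).injective
    apply Subtype.ext
    refine (TKerEquiv_map P i (f + g) y).trans ?_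
    refine Eq.trans ?_ (congrArg Subtype.val (map_add (TKerEquiv P i N)
      (((CohIII.TFun P i).map f).hom y) (((CohIII.TFun P i).map g).hom y))).symm
    refine Eq.trans ?_ (congrArg₂ (· + ·) (TKerEquiv_map P i f y) (TKerEquiv_map P i g y)).symm
    rw [ModuleCat.hom_add, LinearMap.lTensor_add]
    rfl

variable [∀ i, Module.Flat A (P.X i)]

theorem T_mapExact (i : ι) (S : ShortComplex (ModuleCat.{u} A)) (hS : S.ShortExact) :
    (S.map (CohIII.TFun P i)).Exact :=
  (ShortComplex.ShortExact.moduleCat_exact_iff_function_exact _).2 (T_mid_exact P i S hS)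

theorem T_shortExact (i : ι) (hm : (CohIII.TFun P i).PreservesMonomorphisms)
    (he : (CohIII.TFun P i).PreservesEpimorphisms) (S : ShortComplex (ModuleCat.{u} A))
    (hS : S.ShortExact) : (S.map (CohIII.TFun P i)).ShortExact :=
  { exact := T_mapExact P i S hS
    mono_f := (ModuleCat.mono_iff_injective _).2
      ((preservesMono_iff_injective _).1 hm _ _ S.f hS.moduleCat_injective_f)
    epi_g := (ModuleCat.epi_iff_surjective _).2
      ((preservesEpi_iff_surjective _).1 he _ _ S.g hS.moduleCat_surjective_g) }

omit [∀ i, Module.Flat A (P.X i)] in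
theorem length_T_simple [IsLocalRing A] (i : ι) (M : ModuleCat.{u} A) (h : IsSimpleModule A M) :
    Module.length A ((CohIII.TFun P i).obj M) =
      Module.length A (CohIII.T P i (ModuleCat.of A (ResidueField A))) := by
  obtain ⟨m, hm, ⟨e⟩⟩ := isSimpleModule_iff_quot_maximal.1 h
  obtain rfl := IsLocalRing.eq_maximalIdeal hm
  exact ((CohIII.TFun P i).mapIso (e.toModuleIso :
    M ≅ ModuleCat.of A (ResidueField A))).toLinearEquiv.length_eq

variable [IsLocalRing A]

/-- If `T_i` is exact, `length T_i(M) = length T_i(k) · length M`. -/
theorem length_T_eq (i : ι) (hm : (CohIII.TFun P i).PreservesMonomorphisms)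
    (he : (CohIII.TFun P i).PreservesEpimorphisms) (M : ModuleCat.{u} A)
    (hM : Module.length A M ≠ ⊤) :
    Module.length A (CohIII.T P i M) =
      Module.length A (CohIII.T P i (ModuleCat.of A (ResidueField A))) * Module.length A M :=
  length_obj_eq (CohIII.TFun P i) (T_shortExact P i hm he) (fun N hN => length_T_simple P i N hN)
    (Module.length_ne_top_iff.1 hM)

variable [IsArtinianRing A]

/-- The length formula at `A` forces exactness. -/
theorem exact_of_length_eq (i : ι)
    (hd : Module.length A (CohIII.T P i (ModuleCat.of A (ResidueField A))) ≠ ⊤)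
    (hj : Module.length A (CohIII.T P i (ModuleCat.of A A)) =
      Module.length A (CohIII.T P i (ModuleCat.of A (ResidueField A))) * Module.length A A) :
    (CohIII.TFun P i).PreservesMonomorphisms ∧ (CohIII.TFun P i).PreservesEpimorphisms := by
  rw [preservesMono_iff_artinian, preservesEpi_iff_artinian]
  set d := Module.length A (CohIII.T P i (ModuleCat.of A (ResidueField A)))
  have hfl : IsFiniteLength A (maximalIdeal A) :=
    isFiniteLength_iff_isNoetherian_isArtinian.2 ⟨inferInstance, inferInstance⟩
  have hex : Function.Exact (maximalIdeal A).subtype (Algebra.linearMap A (ResidueField A)) :=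
    LinearMap.exact_subtype_mkQ (maximalIdeal A)
  let S : ShortComplex (ModuleCat.{u} A) := ShortComplex.mk (maxInc (A := A)) (resMap (A := A))
    (ModuleCat.hom_ext hex.linearMap_comp_eq_zero)
  have hS : S.ShortExact :=
    { exact := (ShortComplex.ShortExact.moduleCat_exact_iff_function_exact _).2 hex
      mono_f := (ModuleCat.mono_iff_injective _).2 Subtype.val_injective
      epi_g := (ModuleCat.epi_iff_surjective _).2 resMap_surjective }
  have hlen : Module.length A A = Module.length A (maximalIdeal A) + 1 := by
    haveI : IsSimpleModule A (ResidueField A) :=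
      isSimpleModule_iff_quot_maximal.2
        ⟨maximalIdeal A, inferInstance, ⟨LinearEquiv.refl A _⟩⟩
    rw [Module.length_eq_add_of_exact (maximalIdeal A).subtype
      (Algebra.linearMap A (ResidueField A)) Subtype.val_injective resMap_surjective hex,
      Module.length_eq_one (R := A) (M := ResidueField A)]
  have hle := length_obj_le (CohIII.TFun P i) (T_mapExact P i)
    (fun N hN => (length_T_simple P i N hN).le) hfl
  have hdm : d * Module.length A (maximalIdeal A) ≠ ⊤ :=
    WithTop.mul_ne_top hd (Module.length_ne_top_iff.2 hfl)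
  have hX := ne_top_of_le_ne_top hdm hle
  refine (length_eq_add_iff (T_mid_exact P i S hS) hX hd).1 (le_antisymm
    (length_le_add_of_exact (T_mid_exact P i S hS)) ?_)
  refine le_trans (add_le_add hle le_rfl) (le_of_eq ?_)
  refine Eq.trans ?_ hj.symm
  rw [hlen, mul_add, mul_one]
  rfl

end GrothLib.FlatCx
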