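import Groth.Agent.Lib.FlatCx.Bc
import Groth.Agent.Lib.FlatCx.LES
import Groth.Agent.Lib.FlatCx.ArtinLen
import Mathlib.RingTheory.Spectrum.Prime.FreeLocus
import Mathlib.RingTheory.Ideal.MinimalPrime.Localization
import Mathlib.RingTheory.LocalRing.Module
import Groth.Agent.Lib.Flatness.InjMod

/-!
# Exactness of `T_q` in a range of degrees, for complexes bounded below
-/

universe u

noncomputable section

namespace GrothLib.FlatCx

open CategoryTheory CategoryTheory.Limits TensorProduct

variable {A : Type u} [CommRing A]

section exact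

variable (P : ChainComplex (ModuleCat.{u} A) ℤ) [∀ i, Module.Flat A (P.X i)]
variable {i₀ : ℤ} (hb : ∀ i < i₀, IsZero (P.X i))

include hb in
/-- If `T_q(A)` is flat for all `q ≤ p` then `T_q` is exact for all `q < p` and right exact at `p`. -/
theorem exact_upTo_of_flat (p : ℤ) (h : ∀ q ≤ p, Module.Flat A (LinearMap.ker (dBar P q))) :
    ∀ q ≤ p, (CohIII.TFun P q).PreservesMonomorphisms ∧
      (CohIII.TFun P q).PreservesEpimorphisms := by
  suffices hn : ∀ n : ℕ, ∀ q ≤ p, q < i₀ + n → Module.Flat A (cokIn P q) by
    have hmono : ∀ q ≤ p, (CohIII.TFun P q).PreservesMonomorphisms := fun q hq =>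
      (preservesMono_iff P q).2 (hn ((q - i₀).toNat + 1) q hq (by omega))
    exact fun q hq => ⟨hmono q hq, (preservesMono_iff_preservesEpi_succ P
      (show q - 1 + 1 = q by omega)).1 (hmono (q - 1) (by omega))⟩
  intro n
  induction n with
  | zero =>
    intro q _ hq
    haveI : Subsingleton (P.X q) := ModuleCat.subsingleton_of_isZero (hb q (by omega))
    infer_instance
  | succ n ih =>
    intro q hq hqn
    have he : (CohIII.TFun P q).PreservesEpimorphisms :=
      (preservesMono_iff_preservesEpi_succ P (show q - 1 + 1 = q by omega)).1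
        ((preservesMono_iff P (q - 1)).2 (ih (q - 1) (by omega) (by omega)))
    haveI := flat_range_of_epi P q he
    haveI := h q hq
    exact flat_of_flat_ker_range (dBar P q)

include hb in
/-- Finiteness of all `T_q(A)` gives finiteness of all `T_q(M)` for finite `M`. -/
theorem finite_T [IsNoetherianRing A] (hfg : ∀ n, Module.Finite A (CohIII.T P n (ModuleCat.of A A)))
    (q : ℤ) (M : ModuleCat.{u} A) [Module.Finite A M] : Module.Finite A (CohIII.T P q M) := by
  suffices hn : ∀ n : ℕ, ∀ q : ℤ, q < i₀ + n → ∀ (M : ModuleCat.{u} A), Module.Finite A M →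
      Module.Finite A ((CohIII.TFun P q).obj M) from
    hn ((q - i₀).toNat + 1) q (by omega) M inferInstance
  intro n
  induction n with
  | zero =>
    intro q hq M _
    haveI : Subsingleton (P.X q) := ModuleCat.subsingleton_of_isZero (hb q (by omega))
    haveI : Subsingleton (cokIn P q ⊗[A] M) := inferInstance
    exact Module.Finite.equiv (TKerEquiv P q M).symm
  | succ n ih =>
    intro q hq M hM
    obtain ⟨r, π, hπ⟩ := Module.Finite.exists_fin' A M
    let S : ShortComplex (ModuleCat.{u} A) := ShortComplex.mk
      (ModuleCat.ofHom (LinearMap.ker π).subtype) (ModuleCat.ofHom π)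
      (ModuleCat.hom_ext (LinearMap.exact_subtype_ker_map π).linearMap_comp_eq_zero)
    have hS : S.ShortExact :=
      { exact := (ShortComplex.ShortExact.moduleCat_exact_iff_function_exact _).2
          (LinearMap.exact_subtype_ker_map π)
        mono_f := (ModuleCat.mono_iff_injective _).2 Subtype.val_injective
        epi_g := (ModuleCat.epi_iff_surjective _).2 hπ }
    haveI : IsNoetherian A ((CohIII.TFun P (q - 1)).obj S.X₁) :=
      haveI := ih (q - 1) (by omega) S.X₁
        (inferInstanceAs (Module.Finite A (LinearMap.ker π)))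
      isNoetherian_of_isNoetherianRing_of_finite A _
    haveI : IsNoetherian A ((CohIII.TFun P q).obj S.X₂) := by
      haveI : Module.Finite A ((CohIII.TFun P q).obj S.X₂) := by
        let g : (Fin r → (CohIII.TFun P q).obj (ModuleCat.of A A)) →ₗ[A]
            (CohIII.TFun P q).obj S.X₂ :=
          ∑ j, ((CohIII.TFun P q).map
            (ModuleCat.ofHom (LinearMap.single A (fun _ : Fin r => A) j))).hom ∘ₗ LinearMap.proj j
        haveI : Module.Finite A ((CohIII.TFun P q).obj (ModuleCat.of A A)) := hfg q
        refine Module.Finite.of_surjective g fun y => ?_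
        refine ⟨fun j => ((CohIII.TFun P q).map
          (ModuleCat.ofHom (LinearMap.proj (φ := fun _ : Fin r => A) j))).hom y, ?_⟩
        simp only [g, LinearMap.coe_sum, Finset.sum_apply, LinearMap.comp_apply,
          LinearMap.proj_apply]
        have h1 : ∀ j, ((CohIII.TFun P q).map
            (ModuleCat.ofHom (LinearMap.single A (fun _ : Fin r => A) j))).hom
            (((CohIII.TFun P q).map
              (ModuleCat.ofHom (LinearMap.proj (φ := fun _ : Fin r => A) j))).hom y) =
            ((CohIII.TFun P q).map (ModuleCat.ofHom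
              (LinearMap.proj (φ := fun _ : Fin r => A) j) ≫
              ModuleCat.ofHom (LinearMap.single A (fun _ : Fin r => A) j))).hom y := fun j => by
          rw [Functor.map_comp]; rfl
        rw [Finset.sum_congr rfl fun j _ => h1 j, ← LinearMap.sum_apply, ← ModuleCat.hom_sum,
          ← Functor.map_sum]
        have h2 : (∑ j, ModuleCat.ofHom (LinearMap.proj (φ := fun _ : Fin r => A) j) ≫
            ModuleCat.ofHom (LinearMap.single A (fun _ : Fin r => A) j)) = 𝟙 S.X₂ := by
          apply ModuleCat.hom_ext
          rw [ModuleCat.hom_sum]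
          refine LinearMap.ext fun x => ?_
          rw [LinearMap.sum_apply]
          exact Finset.univ_sum_single x
        refine (LinearMap.congr_fun (congrArg ModuleCat.Hom.hom
          ((congrArg (CohIII.TFun P q).map h2).trans ((CohIII.TFun P q).map_id S.X₂))) y).trans ?_
        rfl
      exact isNoetherian_of_isNoetherianRing_of_finite A _
    haveI : IsNoetherian A ((CohIII.TFun P q).obj S.X₃) :=
      isNoetherian_of_range_eq_ker ((CohIII.TFun P q).map S.g).hom
        (Tδ P hS q (q - 1) (by simp)).hom
        (T_exact₃ P hS q (q - 1) (by simp)).linearMap_ker_eq.symm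
    exact Module.IsNoetherian.finite A ((CohIII.TFun P q).obj S.X₃)

end exact

theorem isField_atPrime_of_minimal [IsReduced A] (q : Ideal A) [q.IsPrime]
    (hq : q ∈ minimalPrimes A) : IsField (Localization.AtPrime q) := by
  rw [IsLocalRing.isField_iff_maximalIdeal_eq]
  have h := IsLocalization.AtPrime.radical_map_of_mem_minimalPrimes (A := Localization.AtPrime q)
    q ⊥ hq
  rw [Ideal.map_bot, IsLocalization.AtPrime.map_eq_maximalIdeal q (Localization.AtPrime q)] at h
  rw [← h]
  exact Ideal.radical_bot_of_isReduced

theorem minimal_mem_freeLocus [IsReduced A] (H : Type u) [AddCommGroup H] [Module A H]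
    (q : PrimeSpectrum A) (hq : q.asIdeal ∈ minimalPrimes A) : q ∈ Module.freeLocus A H := by
  rw [Module.mem_freeLocus_iff_tensor q (Localization.AtPrime q.asIdeal)]
  letI := (isField_atPrime_of_minimal q.asIdeal hq).toField
  exact Module.Free.of_divisionRing _ _

section bc

variable {ι : Type} {c : ComplexShape ι} (P : HomologicalComplex (ModuleCat.{u} A) c)

theorem kerCmpBC_surjective_of_flat (B : Type u) [CommRing B] [Algebra A B] [Module.Flat A B]
    (i : ι) : Function.Bijective (kerCmpBC P B i) := by
  refine ⟨fun x y hxy => ?_, ?_⟩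
  · exact Module.Flat.lTensor_preserves_injective_linearMap
      (LinearMap.ker (dBar P i)).subtype Subtype.val_injective (congrArg Subtype.val hxy)
  · rintro ⟨x, hx⟩
    obtain ⟨z, rfl⟩ := (Module.Flat.lTensor_exact B
      (LinearMap.exact_subtype_ker_map (dBar P i)) x).1 hx
    exact ⟨z, rfl⟩

/-- `ker d̄` of a flat base change is the base change of `ker d̄`. -/
theorem nonempty_ker_bcCx_equiv (B : Type u) [CommRing B] [Algebra A B] [Module.Flat A B] (i : ι) :
    Nonempty (LinearMap.ker (dBar (CohIII.bcCx (algebraMap A B) P) i) ≃ₗ[B]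
      B ⊗[A] LinearMap.ker (dBar P i)) := by
  obtain ⟨e⟩ := nonempty_homology_bcCx_equiv P i (B := B)
  exact ⟨(TUnitKerEquiv (CohIII.bcCx (algebraMap A B) P) i).symm ≪≫ₗ
    (TUnitIso (CohIII.bcCx (algebraMap A B) P) i).toLinearEquiv ≪≫ₗ e ≪≫ₗ
    (LinearEquiv.ofBijective _ (kerCmpBC_surjective_of_flat P B i)).symm⟩

theorem dRank_bcCx {B : Type u} [CommRing B] (φ : A →+* B) (i : ι) (y : PrimeSpectrum B) :
    CohIII.dRank (CohIII.bcCx φ P) i y = CohIII.dRank P i (PrimeSpectrum.comap φ y) := by
  let g : (PrimeSpectrum.comap φ y).asIdeal.ResidueField →+* y.asIdeal.ResidueField :=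
    Ideal.ResidueField.map _ y.asIdeal φ rfl
  have h : g.comp (algebraMap A (PrimeSpectrum.comap φ y).asIdeal.ResidueField) =
      (algebraMap B y.asIdeal.ResidueField).comp φ :=
    RingHom.ext fun a => Ideal.ResidueField.map_algebraMap _ _ _ _ a
  have e := HomologicalComplex.homologyMapIso
    (bcCxCompIso φ (algebraMap B y.asIdeal.ResidueField) P) i
  refine Eq.trans e.toLinearEquiv.finrank_eq.symm ?_
  rw [← h]
  exact finrank_homology_bcCx_field _ g P i

end bc

/-- The dimensions over the two residue fields of a local ring agree. -/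
theorem finrank_closedPoint [IsLocalRing A] (H : Type u) [AddCommGroup H] [Module A H]
    [Module.Finite A H] [Module.Flat A H] (x : PrimeSpectrum A) :
    Module.finrank x.asIdeal.ResidueField (x.asIdeal.ResidueField ⊗[A] H) =
      Module.finrank A H := by
  haveI : Module.Free A H := Module.free_of_flat_of_isLocalRing
  exact Module.finrank_baseChange

/-- Over a reduced local ring, constant fibre dimension at the minimal primes forces freeness. -/
theorem free_of_finrank_eq_minimal [IsLocalRing A] [IsReduced A] (H : Type u) [AddCommGroup H]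
    [Module A H] [Module.Finite A H]
    (h : ∀ q : PrimeSpectrum A, q.asIdeal ∈ minimalPrimes A →
      Module.finrank q.asIdeal.ResidueField (q.asIdeal.ResidueField ⊗[A] H) =
        Module.finrank (IsLocalRing.closedPoint A).asIdeal.ResidueField
          ((IsLocalRing.closedPoint A).asIdeal.ResidueField ⊗[A] H)) :
    Module.Free A H := by
  let m := IsLocalRing.closedPoint A
  haveI : m.asIdeal.IsMaximal := IsLocalRing.maximalIdeal.isMaximal A
  let b := Module.finBasis m.asIdeal.ResidueField (m.asIdeal.ResidueField ⊗[A] H)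
  choose v hv using fun i => TensorProduct.mk_surjective A H m.asIdeal.ResidueField
    (Ideal.algebraMap_residueField_surjective m.asIdeal) (b i)
  let φ := Fintype.linearCombination A v
  have hbc : ∀ (K : Type u) [CommRing K] [Algebra A K],
      ∀ i, φ.baseChange K (1 ⊗ₜ Pi.single i (1 : A)) = 1 ⊗ₜ v i := fun K _ _ i => by
    simp [φ, Fintype.linearCombination_apply_single]
  have hs : Function.Surjective (φ.baseChange m.asIdeal.ResidueField) := by
    rw [← LinearMap.range_eq_top, eq_top_iff, ← b.span_eq, Submodule.span_le]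
    rintro _ ⟨i, rfl⟩
    exact ⟨1 ⊗ₜ Pi.single i 1, (hbc _ i).trans (hv i)⟩
  have hφ : Function.Surjective φ := by
    rw [← LinearMap.range_eq_top, eq_top_iff]
    refine Submodule.le_of_le_smul_of_le_jacobson_bot (I := m.asIdeal) Module.Finite.fg_top
      (IsLocalRing.maximalIdeal_le_jacobson ⊥) fun z _ => ?_
    obtain ⟨w, hw⟩ := hs (1 ⊗ₜ z)
    obtain ⟨a, rfl⟩ := TensorProduct.mk_surjective A _ m.asIdeal.ResidueField
      (Ideal.algebraMap_residueField_surjective m.asIdeal) w
    rw [TensorProduct.mk_apply, LinearMap.baseChange_tmul] at hw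
    let e : (A ⧸ m.asIdeal) →ₗ[A] m.asIdeal.ResidueField :=
      (IsScalarTower.toAlgHom A (A ⧸ m.asIdeal) m.asIdeal.ResidueField).toLinearMap
    let e' := LinearEquiv.ofBijective e (Ideal.bijective_algebraMap_quotient_residueField _)
    have h0 : (1 : A ⧸ m.asIdeal) ⊗ₜ[A] (z - φ a) = 0 := by
      apply (LinearEquiv.rTensor H e').injective
      have h1 : e' 1 = 1 := map_one (IsScalarTower.toAlgHom A (A ⧸ m.asIdeal) m.asIdeal.ResidueField)
      rw [LinearEquiv.rTensor_tmul, h1, map_zero, tmul_sub, hw, sub_self]
    have hz := (GrothLib.Flatness.one_tmul_eq_zero_iff m.asIdeal _).1 h0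
    rw [show z = φ a + (z - φ a) by abel]
    exact Submodule.add_mem_sup (LinearMap.mem_range_self _ _) hz
  have hinj : Function.Injective φ := by
    rw [injective_iff_map_eq_zero]
    intro x hx
    funext i
    refine (IsReduced.eq_zero _ ?_ : x i = 0)
    rw [← mem_nilradical, nilradical_eq_sInf, Ideal.mem_sInf]
    intro p hp
    haveI : p.IsPrime := hp
    obtain ⟨q, hq, hqp⟩ := Ideal.exists_minimalPrimes_le (bot_le : (⊥ : Ideal A) ≤ p)
    haveI := hq.1.1
    refine hqp ?_
    have hs : Function.Surjective (φ.baseChange q.ResidueField) :=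
      LinearMap.lTensor_surjective _ hφ
    have hd : Module.finrank q.ResidueField (q.ResidueField ⊗[A]
        (Fin (Module.finrank m.asIdeal.ResidueField (m.asIdeal.ResidueField ⊗[A] H)) → A)) =
          Module.finrank q.ResidueField (q.ResidueField ⊗[A] H) := by
      rw [Module.finrank_baseChange, Module.finrank_fin_fun]
      exact (h ⟨q, inferInstance⟩ hq).symm
    have hi := (LinearMap.injective_iff_surjective_of_finrank_eq_finrank hd).2 hs
    have h0 : (1 : q.ResidueField) ⊗ₜ[A] x = 0 := hi (by
      rw [LinearMap.baseChange_tmul, hx, tmul_zero, map_zero])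
    have h1 : algebraMap A q.ResidueField (x i) = 0 := by
      simpa [Algebra.algebraMap_eq_smul_one] using congrArg
        (fun t => TensorProduct.rid A q.ResidueField
          ((LinearMap.proj (R := A) (φ := fun _ => A) i).lTensor q.ResidueField t)) h0
    exact Ideal.algebraMap_residueField_eq_zero.1 h1
  exact Module.Free.of_equiv (LinearEquiv.ofBijective φ ⟨hinj, hφ⟩)

end GrothLib.FlatCx
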