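import Groth.Agent.Lib.FlatCx.Rank
import Mathlib.RingTheory.Flat.EquationalCriterion
import Mathlib.LinearAlgebra.FreeModule.Finite.Matrix

/-!
# Semicontinuity of fibre ranks and of fibre dimensions of finite modules
-/

universe v u w

noncomputable section

namespace GrothLib.FlatCx

open TensorProduct

variable {A : Type u} [CommRing A]

theorem finrank_ker_add {P : Type v} {Q : Type w} [AddCommGroup P] [Module A P] [Module.Finite A P]
    [AddCommGroup Q] [Module A Q] (l : P →ₗ[A] Q) (x : PrimeSpectrum A) :
    fiberRank l x +
      Module.finrank x.asIdeal.ResidueField (LinearMap.ker (l.baseChange x.asIdeal.ResidueField)) =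
    Module.finrank x.asIdeal.ResidueField (x.asIdeal.ResidueField ⊗[A] P) :=
  LinearMap.finrank_range_add_finrank_ker _

theorem projective_of_finite_flat [IsNoetherianRing A] (M : Type v) [AddCommGroup M] [Module A M]
    [Module.Finite A M] [Module.Flat A M] : Module.Projective A M :=
  haveI := Module.finitePresentation_of_finite A M
  Module.Flat.projective_of_finitePresentation

theorem eventually_finrank_fiber_le (M : Type v) [AddCommGroup M] [Module A M] [Module.Finite A M]
    (x : PrimeSpectrum A) :
    ∀ᶠ y in nhds x, Module.finrank y.asIdeal.ResidueField (y.asIdeal.ResidueField ⊗[A] M) ≤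
      Module.finrank x.asIdeal.ResidueField (x.asIdeal.ResidueField ⊗[A] M) := by
  obtain ⟨n, π, hπ⟩ := Module.Finite.exists_fin' A M
  have key : ∀ y : PrimeSpectrum A,
      fiberRank (LinearMap.ker π).subtype y +
        Module.finrank y.asIdeal.ResidueField (y.asIdeal.ResidueField ⊗[A] M) = n := by
    intro y
    have e := LinearMap.finrank_range_add_finrank_ker (π.baseChange y.asIdeal.ResidueField)
    have hs : Function.Surjective (π.baseChange y.asIdeal.ResidueField) :=
      LinearMap.lTensor_surjective _ hπ
    have hk : LinearMap.range ((LinearMap.ker π).subtype.baseChange y.asIdeal.ResidueField) =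
        LinearMap.ker (π.baseChange y.asIdeal.ResidueField) := by
      ext z
      exact (lTensor_exact y.asIdeal.ResidueField (LinearMap.exact_subtype_ker_map π) hπ z).symm
    rw [LinearMap.range_eq_top.2 hs, finrank_top, ← hk,
      (TensorProduct.piScalarRight A y.asIdeal.ResidueField y.asIdeal.ResidueField
        (Fin n)).finrank_eq, Module.finrank_fin_fun] at e
    rw [add_comm]
    exact e
  filter_upwards [eventually_fiberRank_ge (LinearMap.ker π).subtype x] with y hy
  have h1 := key x
  have h2 := key y
  omega

theorem lowerSemicontinuous_fiberRank {P : Type v} {Q : Type w} [AddCommGroup P] [Module A P]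
    [AddCommGroup Q] [Module A Q] [Module.Finite A Q] [Module.Projective A Q] (l : P →ₗ[A] Q) :
    LowerSemicontinuous (fiberRank l) := by
  intro x y hy
  filter_upwards [eventually_fiberRank_ge l x] with z hz
  omega

section complex

open CategoryTheory

variable {ι : Type} {c : ComplexShape ι} (P : HomologicalComplex (ModuleCat.{u} A) c)
  [∀ i, Module.Finite A (P.X i)] [∀ i, Module.Projective A (P.X i)]

/-- Where `d_i` is constant, the two adjacent fibre ranks are constant. -/
theorem eventually_fiberRank_eq (i : ι) (z : PrimeSpectrum A)
    (h : ∀ᶠ x in nhds z, CohIII.dRank P i x = CohIII.dRank P i z) :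
    ∀ᶠ x in nhds z, fiberRank (P.d (c.prev i) i).hom x = fiberRank (P.d (c.prev i) i).hom z ∧
      fiberRank (P.d i (c.next i)).hom x = fiberRank (P.d i (c.next i)).hom z := by
  haveI : Module.FinitePresentation A (P.X i) := Module.finitePresentation_of_projective A (P.X i)
  filter_upwards [h, eventually_fiberRank_ge (P.d (c.prev i) i).hom z,
    eventually_fiberRank_ge (P.d i (c.next i)).hom z,
    eventually_finrank_fiber_eq (A := A) (P := P.X i) z] with x h0 h1 h2 h3
  have ex := dRank_add P i x
  have ez := dRank_add P i z
  omega

end complex

end GrothLib.FlatCx
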