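import Groth.Agent.Lib.FlatCx.Ker
import Mathlib.RingTheory.FiniteLength
import Mathlib.RingTheory.Artinian.Module
import Mathlib.RingTheory.Artinian.Ring
import Mathlib.RingTheory.SimpleModule.Basic
import Mathlib.RingTheory.LocalRing.ResidueField.Basic

/-!
# Flatness criteria from `T_i` at the residue field, over Artinian local rings
-/

universe u

noncomputable section

namespace GrothLib.FlatCx

open CategoryTheory TensorProduct IsLocalRing

section quot

variable {A : Type u} [CommRing A] {Q : Type u} [AddCommGroup Q] [Module A Q] [Module.Flat A Q]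
  (R : Submodule A Q)

/-- If `R ⊗ A/I → Q ⊗ A/I` is injective for all ideals then `Q/R` is flat. -/
theorem flat_quotient_of_injective
    (h : ∀ I : Ideal A, Function.Injective (R.subtype.rTensor (A ⧸ I))) :
    Module.Flat A (Q ⧸ R) := by
  rw [Module.Flat.iff_lTensor_injective']
  intro I
  rw [injective_iff_map_eq_zero]
  intro x hx
  obtain ⟨y, rfl⟩ := LinearMap.rTensor_surjective I R.mkQ_surjective x
  have hex := LinearMap.exact_subtype_mkQ R
  have h1 : R.mkQ.rTensor A (I.subtype.lTensor Q y) = 0 := by
    rw [← rTensor_lTensor_comm]; exact hx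
  obtain ⟨r, hr⟩ := (rTensor_exact A hex R.mkQ_surjective _).1 h1
  have hI : Function.Exact I.subtype (Submodule.mkQ I) := LinearMap.exact_subtype_mkQ _
  have h2 : (Submodule.mkQ I).lTensor R r = 0 := by
    refine h I ?_
    rw [map_zero, ← rTensor_lTensor_comm, hr, ← LinearMap.lTensor_comp_apply,
      hI.linearMap_comp_eq_zero, LinearMap.lTensor_zero]
    rfl
  obtain ⟨r', rfl⟩ := (lTensor_exact R hI (Submodule.mkQ_surjective _) r).1 h2
  have h3 : y = R.subtype.rTensor I r' := by
    refine Module.Flat.lTensor_preserves_injective_linearMap (M := Q) I.subtype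
      Subtype.val_injective ?_
    rw [rTensor_lTensor_comm]; exact hr.symm
  rw [h3, ← LinearMap.rTensor_comp_apply, hex.linearMap_comp_eq_zero, LinearMap.rTensor_zero]
  rfl

/-- If `C ⊗ I → C ⊗ A` is injective for `C = Q/R`, so is `R ⊗ A/I → Q ⊗ A/I`. -/
theorem injective_of_coker_injective (I : Ideal A)
    (h : Function.Injective (I.subtype.lTensor (Q ⧸ R))) :
    Function.Injective (R.subtype.rTensor (A ⧸ I)) := by
  rw [injective_iff_map_eq_zero]
  intro x hx
  obtain ⟨r, rfl⟩ := LinearMap.lTensor_surjective R (Submodule.mkQ_surjective I) x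
  have hI : Function.Exact I.subtype (Submodule.mkQ I) := LinearMap.exact_subtype_mkQ _
  have h1 : (Submodule.mkQ I).lTensor Q (R.subtype.rTensor A r) = 0 := by
    rw [rTensor_lTensor_comm]; exact hx
  obtain ⟨y, hy⟩ := (lTensor_exact Q hI (Submodule.mkQ_surjective _) _).1 h1
  have hex := LinearMap.exact_subtype_mkQ R
  have h2 : R.mkQ.rTensor I y = 0 := by
    refine h ?_
    rw [map_zero, rTensor_lTensor_comm, hy, ← LinearMap.rTensor_comp_apply,
      hex.linearMap_comp_eq_zero, LinearMap.rTensor_zero]
    rfl
  obtain ⟨r', rfl⟩ := (rTensor_exact I hex R.mkQ_surjective y).1 h2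
  have h3 : r = I.subtype.lTensor R r' := by
    refine Module.Flat.rTensor_preserves_injective_linearMap (M := A) R.subtype
      Subtype.val_injective ?_
    rw [← rTensor_lTensor_comm]; exact hy.symm
  rw [h3, ← LinearMap.lTensor_comp_apply, hI.linearMap_comp_eq_zero, LinearMap.lTensor_zero]
  rfl

variable [IsArtinianRing A] [IsLocalRing A]

omit [IsArtinianRing A] in
theorem injective_of_isFiniteLength
    (h : Function.Injective (R.subtype.rTensor (ResidueField A)))
    {N : Type u} [AddCommGroup N] [Module A N] (hN : IsFiniteLength A N) :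
    Function.Injective (R.subtype.rTensor N) := by
  induction hN with
  | of_subsingleton => exact Function.injective_of_subsingleton _
  | @of_simple_quotient N _ _ N' _ _ ih =>
    obtain ⟨m, hm, ⟨e⟩⟩ := isSimpleModule_iff_quot_maximal.1 ‹IsSimpleModule A (N ⧸ N')›
    obtain rfl := IsLocalRing.eq_maximalIdeal hm
    have hq : Function.Injective (R.subtype.rTensor (N ⧸ N')) := by
      intro a b hab
      apply (LinearEquiv.lTensor R e).injective
      refine h ?_
      show R.subtype.rTensor _ (e.toLinearMap.lTensor R a) =
        R.subtype.rTensor _ (e.toLinearMap.lTensor R b)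
      exact ((rTensor_lTensor_comm R.subtype e.toLinearMap a).symm.trans
        ((congrArg _ hab).trans (rTensor_lTensor_comm R.subtype e.toLinearMap b)))
    rw [injective_iff_map_eq_zero]
    intro x hx
    have hex : Function.Exact N'.subtype N'.mkQ := LinearMap.exact_subtype_mkQ _
    have h1 : N'.mkQ.lTensor R x = 0 := by
      refine hq ?_
      rw [map_zero, ← rTensor_lTensor_comm, hx, map_zero]
    obtain ⟨y, rfl⟩ := (lTensor_exact R hex N'.mkQ_surjective x).1 h1
    rw [← rTensor_lTensor_comm] at hx
    rw [(injective_iff_map_eq_zero _).1 ih y ((injective_iff_map_eq_zero _).1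
      (Module.Flat.lTensor_preserves_injective_linearMap (M := Q) N'.subtype
        Subtype.val_injective) _ hx), map_zero]

/-- Over an Artinian local ring, `Q/R` is flat once `R ⊗ k → Q ⊗ k` is injective. -/
theorem flat_quotient_of_residueField
    (h : Function.Injective (R.subtype.rTensor (ResidueField A))) : Module.Flat A (Q ⧸ R) :=
  flat_quotient_of_injective R fun I => injective_of_isFiniteLength R h
    (isFiniteLength_iff_isNoetherian_isArtinian.2 ⟨inferInstance, inferInstance⟩)

end quot

section T

variable {A : Type u} [CommRing A] {ι : Type} {c : ComplexShape ι}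
  (P : HomologicalComplex (ModuleCat.{u} A) c) [∀ i, Module.Flat A (P.X i)]

theorem rTensor_range_injective_of_surjective_map (i : ι) {M N : ModuleCat.{u} A}
    [Module.Flat A M] (g : M ⟶ N) (h : Function.Surjective ((CohIII.TFun P i).map g).hom) :
    Function.Injective ((LinearMap.range (P.d i (c.next i)).hom).subtype.rTensor N) := by
  set d := (P.d i (c.next i)).hom with hd
  rw [injective_iff_map_eq_zero]
  intro x hx
  obtain ⟨z, rfl⟩ := LinearMap.rTensor_surjective N (LinearMap.surjective_rangeRestrict d) x
  have hz : dT P i (c.next i) N z = 0 := by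
    rw [← hx, ← LinearMap.rTensor_comp_apply]; rfl
  obtain ⟨w, hw, v, hv⟩ := (surjective_map_iff P i g).1 h z hz
  have e : z = g.hom.lTensor (P.X i) w - dT P (c.prev i) i N v :=
    eq_sub_of_add_eq' (eq_sub_iff_add_eq.1 hv)
  have h1 : d.rangeRestrict.rTensor N (g.hom.lTensor (P.X i) w) = 0 := by
    rw [← rTensor_lTensor_comm]
    have hw' : d.rangeRestrict.rTensor M w = 0 := by
      apply (injective_iff_map_eq_zero _).1 (Module.Flat.rTensor_preserves_injective_linearMap
        (M := M) (LinearMap.range d).subtype Subtype.val_injective)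
      rw [← LinearMap.rTensor_comp_apply]
      exact hw
    rw [hw', map_zero]
  have h2 : d.rangeRestrict ∘ₗ (P.d (c.prev i) i).hom = 0 := by
    refine LinearMap.ext fun y => Subtype.ext ?_
    exact LinearMap.congr_fun (d_comp_d_hom P (c.prev i) i (c.next i)) y
  rw [e, map_sub, h1, ← LinearMap.rTensor_comp_apply, h2, LinearMap.rTensor_zero,
    LinearMap.zero_apply, sub_zero]

theorem lTensor_cokIn_injective_of_injective_map (i : ι) {M N : ModuleCat.{u} A} (g : M ⟶ N)
    (hg : Function.Injective g.hom) (h : Function.Injective ((CohIII.TFun P i).map g).hom) :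
    Function.Injective (g.hom.lTensor (cokIn P i)) := by
  rw [injective_iff_map_eq_zero]
  intro x hx
  obtain ⟨w, rfl⟩ := LinearMap.rTensor_surjective M (Submodule.mkQ_surjective _) x
  have h1 : (cokInπ P i).rTensor N (g.hom.lTensor (P.X i) w) = 0 := by
    rw [← rTensor_lTensor_comm]; exact hx
  obtain ⟨v, hv⟩ := (cokInπ_exact P i N _).1 h1
  have hcyc : dT P i (c.next i) M w = 0 := by
    refine (injective_iff_map_eq_zero _).1
      (Module.Flat.lTensor_preserves_injective_linearMap g.hom hg) _ ?_
    rw [rTensor_lTensor_comm, ← hv, ← LinearMap.comp_apply, ← LinearMap.rTensor_comp,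
      d_comp_d_hom, LinearMap.rTensor_zero, LinearMap.zero_apply]
  exact (cokInπ_exact P i M _).2 ((injective_map_iff P i g).1 h w hcyc ⟨v, hv⟩)

variable [IsArtinianRing A] [IsLocalRing A]

/-- The inclusion of the maximal ideal. -/
abbrev maxInc : ModuleCat.of A (maximalIdeal A) ⟶ ModuleCat.of A A :=
  ModuleCat.ofHom (maximalIdeal A).subtype

theorem preservesEpi_iff_artinian (i : ι) :
    (CohIII.TFun P i).PreservesEpimorphisms ↔
      Function.Surjective ((CohIII.TFun P i).map (resMap (A := A))).hom := by
  refine ⟨fun h => (preservesEpi_iff_surjective _).1 h _ _ _ resMap_surjective, fun h => ?_⟩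
  exact (preservesEpi_iff P i).2
    (flat_quotient_of_residueField _ (rTensor_range_injective_of_surjective_map P i _ h))

theorem preservesMono_iff_artinian (i : ι) :
    (CohIII.TFun P i).PreservesMonomorphisms ↔
      Function.Injective ((CohIII.TFun P i).map (maxInc (A := A))).hom := by
  refine ⟨fun h => (preservesMono_iff_injective _).1 h _ _ _ Subtype.val_injective, fun h => ?_⟩
  refine (preservesMono_iff P i).2 (flat_quotient_of_residueField _ ?_)
  exact injective_of_coker_injective _ (maximalIdeal A)
    (lTensor_cokIn_injective_of_injective_map P i _ Subtype.val_injective h)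

end T

end GrothLib.FlatCx
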