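import Mathlib.Algebra.Category.ModuleCat.Monoidal.Closed
import Mathlib.Algebra.Category.ModuleCat.Colimits
import Mathlib.Algebra.Category.ModuleCat.Abelian
import Mathlib.Algebra.Homology.ShortComplex.ModuleCat
import Mathlib.CategoryTheory.Abelian.Exact
import Mathlib.CategoryTheory.Linear.LinearFunctor
import Mathlib.CategoryTheory.Limits.Preserves.Shapes.Kernels
import Mathlib.LinearAlgebra.FreeModule.Basic
import Mathlib.LinearAlgebra.TensorProduct.RightExactness
import Mathlib.CategoryTheory.Monoidal.Closed.Braided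

/-!
# The comparison `T(A) ⊗ M → T(M)` for linear functors (Eilenberg–Watts)
-/

universe u

noncomputable section

namespace GrothLib.FlatCx

open CategoryTheory CategoryTheory.Limits TensorProduct MonoidalCategory

variable {A : Type u} [CommRing A] (T : ModuleCat.{u} A ⥤ ModuleCat.{u} A) [T.Additive] [T.Linear A]

/-- The comparison map. -/
def cmpT (M : ModuleCat.{u} A) :
    TensorProduct A (T.obj (ModuleCat.of A A)) M →ₗ[A] T.obj M :=
  TensorProduct.lift (LinearMap.flip
    ((ModuleCat.homLinearEquiv (S := A)).toLinearMap ∘ₗ Functor.mapLinearMap A T ∘ₗ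
      (ModuleCat.homLinearEquiv (S := A)).symm.toLinearMap ∘ₗ
        (LinearMap.ringLmapEquivSelf A A M).symm.toLinearMap))

/-- The morphism `A → M` sending `1` to `m`. -/
abbrev pt {M : ModuleCat.{u} A} (m : M) : ModuleCat.of A A ⟶ M :=
  ModuleCat.ofHom (LinearMap.toSpanSingleton A M m)

theorem cmpT_tmul (M : ModuleCat.{u} A) (x : T.obj (ModuleCat.of A A)) (m : M) :
    cmpT T M (x ⊗ₜ m) = (T.map (pt m)).hom x := by
  rfl

theorem cmpT_map {M N : ModuleCat.{u} A} (f : M ⟶ N)
    (z : TensorProduct A (T.obj (ModuleCat.of A A)) M) :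
    cmpT T N (f.hom.lTensor _ z) = (T.map f).hom (cmpT T M z) := by
  induction z using TensorProduct.induction_on with
  | zero => simp
  | add a b ha hb => simp only [map_add, ha, hb]
  | tmul x m =>
    rw [LinearMap.lTensor_tmul, cmpT_tmul, cmpT_tmul, ← LinearMap.comp_apply, ← ModuleCat.hom_comp,
      ← T.map_comp]
    congr 3
    ext
    simp

/-- The comparison as a natural transformation. -/
def cmpNat : tensorLeft (T.obj (ModuleCat.of A A)) ⟶ T where
  app M := ModuleCat.ofHom (cmpT T M)
  naturality M N f := by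
    ext z
    exact cmpT_map T f z

theorem cmpT_bijective_self : Function.Bijective (cmpT T (ModuleCat.of A A)) := by
  have h : ∀ z, cmpT T (ModuleCat.of A A) z = TensorProduct.rid A _ z := by
    intro z
    induction z using TensorProduct.induction_on with
    | zero => simp
    | add a b ha hb => simp only [map_add, ha, hb]
    | tmul x a =>
      rw [cmpT_tmul, TensorProduct.rid_tmul]
      have : pt (M := ModuleCat.of A A) a = a • 𝟙 (ModuleCat.of A A) := by
        ext; simp
      rw [this, T.map_smul, T.map_id]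
      rfl
  rw [show (cmpT T (ModuleCat.of A A) : _ → _) = TensorProduct.rid A _ from funext h]
  exact LinearEquiv.bijective _

theorem bijective_iff_isIso {M : ModuleCat.{u} A} :
    Function.Bijective (cmpT T M) ↔ IsIso ((cmpNat T).app M) :=
  (ConcreteCategory.isIso_iff_bijective ((cmpNat T).app M)).symm

variable [∀ J : Type u, PreservesColimitsOfShape (Discrete J) T]

omit [T.Additive] [T.Linear A] in
theorem isIso_app_coproduct {F : ModuleCat.{u} A ⥤ ModuleCat.{u} A}
    [∀ J : Type u, PreservesColimitsOfShape (Discrete J) F] (η : F ⟶ T) {J : Type u}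
    {f : J → ModuleCat.{u} A} {c : Cofan f} (hc : IsColimit c) [∀ j, IsIso (η.app (f j))] :
    IsIso (η.app c.pt) := by
  have hT := isColimitOfPreserves T hc
  have hF := isColimitOfPreserves F hc
  let inv : T.obj c.pt ⟶ F.obj c.pt := hT.desc ⟨F.obj c.pt, Discrete.natTrans fun j =>
    CategoryTheory.inv (η.app (f j.as)) ≫ F.map (c.inj j.as)⟩
  have hinv : ∀ j, T.map (c.inj j) ≫ inv =
      CategoryTheory.inv (η.app (f j)) ≫ F.map (c.inj j) := fun j => hT.fac _ ⟨j⟩
  refine ⟨inv, hF.hom_ext fun j => ?_, hT.hom_ext fun j => ?_⟩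
  · show F.map (c.inj j.as) ≫ η.app c.pt ≫ inv = F.map (c.inj j.as) ≫ 𝟙 _
    rw [← Category.assoc, η.naturality, Category.assoc, hinv, IsIso.hom_inv_id_assoc,
      Category.comp_id]
  · show T.map (c.inj j.as) ≫ inv ≫ η.app c.pt = T.map (c.inj j.as) ≫ 𝟙 _
    rw [← Category.assoc, hinv, Category.assoc, η.naturality, IsIso.inv_hom_id_assoc,
      Category.comp_id]

/-- A module with a basis as a coproduct of copies of the ring. -/
def basisCofanIsColimit {M : ModuleCat.{u} A} {ι : Type u} (b : Module.Basis ι A M) :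
    IsColimit (Cofan.mk M fun i : ι => pt (b i)) :=
  mkCofanColimit _ (fun s => ModuleCat.ofHom (b.constr A fun i => (s.inj i).hom 1))
    (fun s i => by
      ext
      show b.constr A _ ((1 : A) • b i) = _
      rw [one_smul, b.constr_basis])
    (fun s m hm => by
      refine ModuleCat.hom_ext (b.ext fun i => ?_)
      rw [ModuleCat.hom_ofHom, b.constr_basis, ← hm i]
      show m.hom (b i) = m.hom ((1 : A) • b i)
      rw [one_smul])

theorem cmpT_bijective_of_free (L : ModuleCat.{u} A) [Module.Free A L] :
    Function.Bijective (cmpT T L) := by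
  obtain ⟨ι, b⟩ := Module.Free.exists_basis A L
  rw [bijective_iff_isIso]
  haveI : ∀ _i : ι, IsIso ((cmpNat T).app (ModuleCat.of A A)) :=
    fun _ => (bijective_iff_isIso T).1 (cmpT_bijective_self T)
  haveI : IsIso ((cmpNat T).app (ModuleCat.of A A)) :=
    (bijective_iff_isIso T).1 (cmpT_bijective_self T)
  exact isIso_app_coproduct T (cmpNat T) (f := fun _ : ι => ModuleCat.of A A) (basisCofanIsColimit b)

omit [∀ J : Type u, PreservesColimitsOfShape (Discrete J) T] [T.Linear A] in
theorem map_exact_of_rightExact [PreservesFiniteColimits T] (S : ShortComplex (ModuleCat.{u} A))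
    (hS : S.ShortExact) : (S.map T).Exact :=
  (S.map T).exact_of_g_is_cokernel (CokernelCofork.mapIsColimit _ hS.gIsCokernel T)

theorem free_of_finsupp (M : Type u) : Module.Free A (ModuleCat.of A (M →₀ A)) :=
  Module.Free.of_basis (Module.Basis.ofRepr (LinearEquiv.refl A (M →₀ A)))

/-- The short complex `ker π → F → M`. -/
def presSC {M : ModuleCat.{u} A} (π : (M →₀ A) →ₗ[A] M) : ShortComplex (ModuleCat.{u} A) :=
  ShortComplex.mk
    (show ModuleCat.of A (LinearMap.ker π) ⟶ ModuleCat.of A (M →₀ A) from
      ModuleCat.ofHom (LinearMap.ker π).subtype)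
    (show ModuleCat.of A (M →₀ A) ⟶ M from ModuleCat.ofHom π)
    (ModuleCat.hom_ext (LinearMap.exact_subtype_ker_map π).linearMap_comp_eq_zero)

omit [T.Additive] [T.Linear A] [∀ J : Type u, PreservesColimitsOfShape (Discrete J) T] in
theorem presSC_shortExact {M : ModuleCat.{u} A} (π : (M →₀ A) →ₗ[A] M)
    (hπ : Function.Surjective π) : (presSC π).ShortExact :=
  { exact := (ShortComplex.ShortExact.moduleCat_exact_iff_function_exact _).2
      (LinearMap.exact_subtype_ker_map π)
    mono_f := (ModuleCat.mono_iff_injective _).2 Subtype.val_injective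
    epi_g := (ModuleCat.epi_iff_surjective _).2 hπ }

theorem cmpT_surjective_of_rightExact [PreservesFiniteColimits T] (M : ModuleCat.{u} A) :
    Function.Surjective (cmpT T M) := by
  let π : (M →₀ A) →ₗ[A] M := Finsupp.linearCombination A id
  have hπ : Function.Surjective π := Finsupp.linearCombination_id_surjective A M
  haveI : Epi (ModuleCat.ofHom π : ModuleCat.of A (M →₀ A) ⟶ M) :=
    (ModuleCat.epi_iff_surjective _).2 hπ
  intro y
  obtain ⟨a, rfl⟩ := (ModuleCat.epi_iff_surjective (T.map (ModuleCat.ofHom π))).1 inferInstance y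
  haveI := free_of_finsupp (A := A) M
  obtain ⟨z, rfl⟩ := (cmpT_bijective_of_free T (ModuleCat.of A (M →₀ A))).2 a
  exact ⟨_, cmpT_map T (ModuleCat.ofHom π) z⟩

theorem cmpT_bijective_of_halfExact
    (hT : ∀ S : ShortComplex (ModuleCat.{u} A), S.ShortExact → (S.map T).Exact)
    (hs : ∀ M : ModuleCat.{u} A, Function.Surjective (cmpT T M)) (M : ModuleCat.{u} A) :
    Function.Bijective (cmpT T M) := by
  refine ⟨?_, hs M⟩
  let π : (M →₀ A) →ₗ[A] M := Finsupp.linearCombination A id
  have hπ : Function.Surjective π := Finsupp.linearCombination_id_surjective A M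
  rw [injective_iff_map_eq_zero]
  intro x hx
  obtain ⟨y, rfl⟩ := LinearMap.lTensor_surjective _ hπ x
  have hex := (ShortComplex.ShortExact.moduleCat_exact_iff_function_exact _).1
    (hT (presSC π) (presSC_shortExact π hπ))
  obtain ⟨z, hz⟩ := (hex (cmpT T (ModuleCat.of A (M →₀ A)) y)).1
    ((cmpT_map T (ModuleCat.ofHom π) y).symm.trans hx)
  obtain ⟨w, rfl⟩ := hs (presSC π).X₁ z
  have h1 : cmpT T (ModuleCat.of A (M →₀ A)) ((presSC π).f.hom.lTensor _ w) =
      cmpT T (ModuleCat.of A (M →₀ A)) y := (cmpT_map T (presSC π).f w).trans hz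
  haveI := free_of_finsupp (A := A) M
  rw [← (cmpT_bijective_of_free T _).1 h1]
  refine (LinearMap.congr_fun (LinearMap.lTensor_comp _ π (presSC π).f.hom).symm w).trans ?_
  have h0 : π ∘ₗ (presSC π).f.hom = 0 :=
    (LinearMap.exact_subtype_ker_map π).linearMap_comp_eq_zero
  rw [h0, LinearMap.lTensor_zero, LinearMap.zero_apply]

omit [∀ J : Type u, PreservesColimitsOfShape (Discrete J) T] in
theorem rightExact_of_bijective (h : ∀ M : ModuleCat.{u} A, Function.Bijective (cmpT T M)) :
    PreservesFiniteColimits T := by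
  haveI : ∀ M, IsIso ((cmpNat T).app M) := fun M => (bijective_iff_isIso T).1 (h M)
  haveI : IsIso (cmpNat T) := NatIso.isIso_of_isIso_app _
  exact preservesFiniteColimits_of_natIso (asIso (cmpNat T))

end GrothLib.FlatCx
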