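import Groth.Prelude.Def_ega3
import Mathlib.Algebra.Homology.ShortComplex.ModuleCat
import Mathlib.RingTheory.Flat.Basic
import Mathlib.LinearAlgebra.TensorProduct.RightExactness

/-!
# Exactness of `M ↦ H_p(P ⊗ M)` for complexes of flat modules

`cls` is the homology class of a cycle. For flat terms, `T_p` preserves monomorphisms iff the
cokernel of the incoming differential is flat, and epimorphisms iff the cokernel of the outgoing
one is flat.
-/

universe v u

noncomputable section

namespace GrothLib.FlatCx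

open CategoryTheory MonoidalCategory

section cls

variable {A : Type u} [CommRing A]

/-- The homology class of a cycle of a short complex of modules. -/
def scCls (S : ShortComplex (ModuleCat.{v} A)) : LinearMap.ker S.g.hom →ₗ[A] S.homology :=
  (S.moduleCatCyclesIso.inv ≫ S.homologyπ).hom

theorem scCls_surjective (S : ShortComplex (ModuleCat.{v} A)) :
    Function.Surjective (scCls S) :=
  (ModuleCat.epi_iff_surjective _).1 inferInstance

theorem scCls_eq_zero_iff (S : ShortComplex (ModuleCat.{v} A)) (z : LinearMap.ker S.g.hom) :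
    scCls S z = 0 ↔ (z : S.X₂) ∈ LinearMap.range S.f.hom := by
  have hinj : Function.Injective S.moduleCatHomologyIso.inv.hom :=
    (ModuleCat.mono_iff_injective S.moduleCatHomologyIso.inv).1 inferInstance
  have hq : scCls S z = S.moduleCatHomologyIso.inv.hom
      (S.moduleCatLeftHomologyData.π.hom z) := by
    rw [scCls, S.moduleCatCyclesIso_inv_π]
    rfl
  rw [hq, map_eq_zero_iff _ hinj]
  refine (Submodule.Quotient.mk_eq_zero _).trans ⟨?_, ?_⟩
  · rintro ⟨y, hy⟩
    exact ⟨y, congrArg Subtype.val hy⟩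
  · rintro ⟨y, hy⟩
    exact ⟨y, Subtype.ext hy⟩

theorem map_mem_ker {S T : ShortComplex (ModuleCat.{v} A)} (φ : S ⟶ T)
    (z : LinearMap.ker S.g.hom) : φ.τ₂.hom (z : S.X₂) ∈ LinearMap.ker T.g.hom := by
  have := LinearMap.congr_fun (congrArg ModuleCat.Hom.hom φ.comm₂₃) (z : S.X₂)
  simp only [ModuleCat.hom_comp, LinearMap.comp_apply, LinearMap.mem_ker.1 z.2, map_zero] at this
  exact this

theorem scCls_map {S T : ShortComplex (ModuleCat.{v} A)} (φ : S ⟶ T) (z : LinearMap.ker S.g.hom) :
    (ShortComplex.homologyMap φ).hom (scCls S z) = scCls T ⟨φ.τ₂.hom z, map_mem_ker φ z⟩ := by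
  have h1 : (ShortComplex.homologyMap φ).hom (scCls S z) =
      T.homologyπ.hom ((ShortComplex.cyclesMap φ).hom (S.moduleCatCyclesIso.inv.hom z)) :=
    LinearMap.congr_fun (congrArg ModuleCat.Hom.hom
      (show S.moduleCatCyclesIso.inv ≫ S.homologyπ ≫ ShortComplex.homologyMap φ =
        S.moduleCatCyclesIso.inv ≫ ShortComplex.cyclesMap φ ≫ T.homologyπ by
        rw [ShortComplex.homologyπ_naturality])) z
  rw [h1]
  show T.homologyπ.hom _ = T.homologyπ.hom (T.moduleCatCyclesIso.inv.hom _)
  congr 1
  apply (ModuleCat.mono_iff_injective T.iCycles).1 inferInstance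
  have h2 : T.iCycles.hom ((ShortComplex.cyclesMap φ).hom (S.moduleCatCyclesIso.inv.hom z)) =
      φ.τ₂.hom (S.moduleCatLeftHomologyData.i.hom z) :=
    LinearMap.congr_fun (congrArg ModuleCat.Hom.hom
      (show S.moduleCatCyclesIso.inv ≫ ShortComplex.cyclesMap φ ≫ T.iCycles =
        S.moduleCatLeftHomologyData.i ≫ φ.τ₂ by
        rw [ShortComplex.cyclesMap_i, ← Category.assoc, S.moduleCatCyclesIso_inv_iCycles])) z
  have h3 : ∀ w, T.iCycles.hom (T.moduleCatCyclesIso.inv.hom w) =
      T.moduleCatLeftHomologyData.i.hom w := fun w =>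
    LinearMap.congr_fun (congrArg ModuleCat.Hom.hom T.moduleCatCyclesIso_inv_iCycles) w
  exact h2.trans (h3 ⟨φ.τ₂.hom z, map_mem_ker φ z⟩).symm

theorem scCls_eq_iff (S : ShortComplex (ModuleCat.{v} A)) (z w : LinearMap.ker S.g.hom) :
    scCls S z = scCls S w ↔ (z : S.X₂) - w ∈ LinearMap.range S.f.hom := by
  rw [← sub_eq_zero, ← map_sub, scCls_eq_zero_iff]
  rfl

end cls

section functor

variable {A : Type u} [CommRing A] {ι : Type} {c : ComplexShape ι}
variable (P : HomologicalComplex (ModuleCat.{u} A) c)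

/-- The differential tensored with `M`. -/
abbrev dT (i j : ι) (M : Type u) [AddCommGroup M] [Module A M] :
    TensorProduct A (P.X i) M →ₗ[A] TensorProduct A (P.X j) M :=
  (P.d i j).hom.rTensor M

theorem sc_g (i : ι) (M : ModuleCat.{u} A) :
    ((CohIII.tensorObj P M).sc i).g.hom = dT P i (c.next i) M := rfl

theorem sc_f (i : ι) (M : ModuleCat.{u} A) :
    ((CohIII.tensorObj P M).sc i).f.hom = dT P (c.prev i) i M := rfl

/-- Surjectivity of `H_i(P ⊗ M) → H_i(P ⊗ N)` on cycles. -/
theorem surjective_map_iff (i : ι) {M N : ModuleCat.{u} A} (g : M ⟶ N) :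
    Function.Surjective ((CohIII.TFun P i).map g).hom ↔
      ∀ z : TensorProduct A (P.X i) N, dT P i (c.next i) N z = 0 →
        ∃ w : TensorProduct A (P.X i) M, dT P i (c.next i) M w = 0 ∧
          g.hom.lTensor (P.X i) w - z ∈ LinearMap.range (dT P (c.prev i) i N) := by
  let S := (CohIII.tensorObj P M).sc i
  let T := (CohIII.tensorObj P N).sc i
  let φ : S ⟶ T := (HomologicalComplex.shortComplexFunctor _ c i).map (CohIII.tensorMap P g)
  have key : ∀ w : LinearMap.ker S.g.hom, ((CohIII.TFun P i).map g).hom (scCls S w) =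
      scCls T ⟨φ.τ₂.hom w, map_mem_ker φ w⟩ := fun w => scCls_map φ w
  constructor
  · intro h z hz
    obtain ⟨y, hy⟩ := h (scCls T ⟨z, hz⟩)
    obtain ⟨w, rfl⟩ := scCls_surjective S y
    exact ⟨w.1, w.2, (scCls_eq_iff T _ _).1 ((key w).symm.trans hy)⟩
  · intro h y
    obtain ⟨z, rfl⟩ := scCls_surjective T y
    obtain ⟨w, hw, hwz⟩ := h z.1 z.2
    exact ⟨scCls S ⟨w, hw⟩, (key ⟨w, hw⟩).trans ((scCls_eq_iff T _ _).2 hwz)⟩

/-- Injectivity of `H_i(P ⊗ M) → H_i(P ⊗ N)` on cycles. -/
theorem injective_map_iff (i : ι) {M N : ModuleCat.{u} A} (g : M ⟶ N) :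
    Function.Injective ((CohIII.TFun P i).map g).hom ↔
      ∀ w : TensorProduct A (P.X i) M, dT P i (c.next i) M w = 0 →
        g.hom.lTensor (P.X i) w ∈ LinearMap.range (dT P (c.prev i) i N) →
          w ∈ LinearMap.range (dT P (c.prev i) i M) := by
  let S := (CohIII.tensorObj P M).sc i
  let T := (CohIII.tensorObj P N).sc i
  let φ : S ⟶ T := (HomologicalComplex.shortComplexFunctor _ c i).map (CohIII.tensorMap P g)
  have key : ∀ w : LinearMap.ker S.g.hom, ((CohIII.TFun P i).map g).hom (scCls S w) =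
      scCls T ⟨φ.τ₂.hom w, map_mem_ker φ w⟩ := fun w => scCls_map φ w
  constructor
  · intro h w hw hgw
    have h1 : ((CohIII.TFun P i).map g).hom (scCls S ⟨w, hw⟩) = 0 :=
      (key ⟨w, hw⟩).trans ((scCls_eq_zero_iff T _).2 hgw)
    exact (scCls_eq_zero_iff S ⟨w, hw⟩).1 (h (h1.trans (map_zero _).symm))
  · intro h
    rw [injective_iff_map_eq_zero]
    intro y hy
    obtain ⟨w, rfl⟩ := scCls_surjective S y
    exact (scCls_eq_zero_iff S w).2
      (h w.1 w.2 ((scCls_eq_zero_iff T _).1 ((key w).symm.trans hy)))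

theorem preservesEpi_iff_surjective (F : ModuleCat.{u} A ⥤ ModuleCat.{u} A) :
    F.PreservesEpimorphisms ↔
      ∀ (M N : ModuleCat.{u} A) (g : M ⟶ N), Function.Surjective g.hom →
        Function.Surjective (F.map g).hom :=
  ⟨fun h M N g hg => by
      have := (ModuleCat.epi_iff_surjective g).2 hg
      exact (ModuleCat.epi_iff_surjective _).1 (h.preserves g),
    fun h => ⟨fun {M N} g hg =>
      (ModuleCat.epi_iff_surjective _).2 (h M N g ((ModuleCat.epi_iff_surjective g).1 hg))⟩⟩

theorem preservesMono_iff_injective (F : ModuleCat.{u} A ⥤ ModuleCat.{u} A) :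
    F.PreservesMonomorphisms ↔
      ∀ (M N : ModuleCat.{u} A) (g : M ⟶ N), Function.Injective g.hom →
        Function.Injective (F.map g).hom :=
  ⟨fun h M N g hg => by
      have := (ModuleCat.mono_iff_injective g).2 hg
      exact (ModuleCat.mono_iff_injective _).1 (h.preserves g),
    fun h => ⟨fun {M N} g hg =>
      (ModuleCat.mono_iff_injective _).2 (h M N g ((ModuleCat.mono_iff_injective g).1 hg))⟩⟩

theorem rTensor_lTensor_comm {X Y M N : Type u} [AddCommGroup X] [Module A X] [AddCommGroup Y]
    [Module A Y] [AddCommGroup M] [Module A M] [AddCommGroup N] [Module A N] (f : X →ₗ[A] Y)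
    (g : M →ₗ[A] N) (x : TensorProduct A X M) :
    g.lTensor Y (f.rTensor M x) = f.rTensor N (g.lTensor X x) := by
  rw [← LinearMap.comp_apply, ← LinearMap.comp_apply, LinearMap.lTensor_comp_rTensor,
    LinearMap.rTensor_comp_lTensor]

theorem d_comp_d_hom (i j k : ι) : (P.d j k).hom ∘ₗ (P.d i j).hom = 0 := by
  rw [← ModuleCat.hom_comp, P.d_comp_d i j k]
  rfl

variable [∀ i, Module.Flat A (P.X i)]

/-- `T_i` preserves monomorphisms iff the cokernel of `d : P_{prev} → P_i` is flat. -/
theorem preservesMono_iff (i : ι) :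
    (CohIII.TFun P i).PreservesMonomorphisms ↔
      Module.Flat A (P.X i ⧸ LinearMap.range (P.d (c.prev i) i).hom) := by
  rw [preservesMono_iff_injective, Module.Flat.iff_lTensor_preserves_injective_linearMap]
  set π := (LinearMap.range (P.d (c.prev i) i).hom).mkQ with hπ
  have hex : ∀ (M : Type u) [AddCommGroup M] [Module A M],
      Function.Exact (dT P (c.prev i) i M) (π.rTensor M) := fun M _ _ =>
    rTensor_exact M (LinearMap.exact_map_mkQ_range _) (Submodule.mkQ_surjective _)
  constructor
  · intro h M N _ _ _ _ g hg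
    rw [injective_iff_map_eq_zero]
    intro x hx
    obtain ⟨w, rfl⟩ := LinearMap.rTensor_surjective M (Submodule.mkQ_surjective _) x
    have h1 : π.rTensor N (g.lTensor (P.X i) w) = 0 := by
      rw [← rTensor_lTensor_comm]; exact hx
    obtain ⟨v, hv⟩ := (hex N _).1 h1
    have hcyc : dT P i (c.next i) M w = 0 := by
      refine (injective_iff_map_eq_zero _).1
        (Module.Flat.lTensor_preserves_injective_linearMap g hg) _ ?_
      rw [rTensor_lTensor_comm, ← hv, ← LinearMap.comp_apply, ← LinearMap.rTensor_comp,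
        d_comp_d_hom, LinearMap.rTensor_zero, LinearMap.zero_apply]
    have := (injective_map_iff P i (ModuleCat.ofHom g)).1 (h _ _ (ModuleCat.ofHom g) hg) w hcyc
      ⟨v, hv⟩
    exact (hex M _).2 this
  · intro h M N g hg
    rw [injective_map_iff]
    intro w _ hgw
    apply (hex M _).1
    apply (injective_iff_map_eq_zero _).1 (h g.hom hg)
    rw [rTensor_lTensor_comm]
    exact (hex N _).2 hgw

/-- `T_i` preserves epimorphisms iff the cokernel of `d : P_i → P_next` is flat. -/
theorem preservesEpi_iff (i : ι) :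
    (CohIII.TFun P i).PreservesEpimorphisms ↔
      Module.Flat A (P.X (c.next i) ⧸ LinearMap.range (P.d i (c.next i)).hom) := by
  rw [preservesEpi_iff_surjective]
  set π := (LinearMap.range (P.d i (c.next i)).hom).mkQ with hπ
  have hex : ∀ (M : Type u) [AddCommGroup M] [Module A M],
      Function.Exact (dT P i (c.next i) M) (π.rTensor M) := fun M _ _ =>
    rTensor_exact M (LinearMap.exact_map_mkQ_range _) (Submodule.mkQ_surjective _)
  constructor
  · intro h
    rw [Module.Flat.iff_lTensor_preserves_injective_linearMap]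
    intro M N _ _ _ _ g hg
    rw [injective_iff_map_eq_zero]
    intro x hx
    obtain ⟨x, rfl⟩ := LinearMap.rTensor_surjective M (Submodule.mkQ_surjective _) x
    have h1 : π.rTensor N (g.lTensor _ x) = 0 := by rw [← rTensor_lTensor_comm]; exact hx
    obtain ⟨y, hy⟩ := (hex N _).1 h1
    let q := (LinearMap.range g).mkQ
    have hgq : Function.Exact g q := LinearMap.exact_map_mkQ_range g
    have hq : Function.Surjective q := Submodule.mkQ_surjective _
    have hcyc : dT P i (c.next i) (N ⧸ LinearMap.range g) (q.lTensor _ y) = 0 := by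
      rw [← rTensor_lTensor_comm, hy]
      exact (lTensor_exact (P.X (c.next i)) hgq hq _).2 ⟨x, rfl⟩
    obtain ⟨w, hw, v, hv⟩ := (surjective_map_iff P i
      (ModuleCat.ofHom q)).1 (h (ModuleCat.of A N) (ModuleCat.of A (N ⧸ LinearMap.range g))
        (ModuleCat.ofHom q) hq) _ hcyc
    obtain ⟨v', rfl⟩ := LinearMap.lTensor_surjective _ hq v
    have h2 : q.lTensor (P.X i) (w - y - dT P (c.prev i) i N v') = 0 := by
      rw [map_sub, map_sub, rTensor_lTensor_comm, hv]
      exact sub_self _
    obtain ⟨y', hy'⟩ := (lTensor_exact (P.X i) hgq hq _).1 h2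
    have h3 : g.lTensor (P.X (c.next i)) (x + dT P i (c.next i) M y') = 0 := by
      rw [map_add, rTensor_lTensor_comm, hy']
      simp only [map_sub, hw, hy]
      rw [← LinearMap.comp_apply (dT P i (c.next i) N), ← LinearMap.rTensor_comp, d_comp_d_hom,
        LinearMap.rTensor_zero, LinearMap.zero_apply]
      abel
    have h4 := (injective_iff_map_eq_zero _).1
      (Module.Flat.lTensor_preserves_injective_linearMap g hg) _ h3
    refine (hex M _).2 ⟨-y', ?_⟩
    rw [map_neg]
    exact (eq_neg_of_add_eq_zero_left h4).symm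
  · intro h M N g hg
    rw [surjective_map_iff]
    intro z hz
    obtain ⟨y, hy⟩ := LinearMap.lTensor_surjective (P.X i) hg z
    have hgq : Function.Exact (LinearMap.ker g.hom).subtype g.hom :=
      LinearMap.exact_subtype_ker_map g.hom
    have h1 : g.hom.lTensor _ (dT P i (c.next i) M y) = 0 := by
      rw [rTensor_lTensor_comm, hy, hz]
    obtain ⟨x, hx⟩ := (lTensor_exact (P.X (c.next i)) hgq hg _).1 h1
    have h2 : π.rTensor _ x = 0 := by
      apply (injective_iff_map_eq_zero _).1 (Module.Flat.lTensor_preserves_injective_linearMap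
        (M := P.X (c.next i) ⧸ LinearMap.range (P.d i (c.next i)).hom)
        (LinearMap.ker g.hom).subtype Subtype.val_injective)
      rw [rTensor_lTensor_comm, hx]
      exact (hex M _).2 ⟨y, rfl⟩
    obtain ⟨y', hy'⟩ := (hex _ _).1 h2
    refine ⟨y - (LinearMap.ker g.hom).subtype.lTensor (P.X i) y', ?_, 0, ?_⟩
    · rw [map_sub, ← rTensor_lTensor_comm, hy', hx, sub_self]
    · have h5 : g.hom.lTensor (P.X i) ((LinearMap.ker g.hom).subtype.lTensor (P.X i) y') = 0 :=
        (lTensor_exact (P.X i) hgq hg _).2 ⟨y', rfl⟩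
      rw [map_zero, map_sub, h5, hy, sub_zero, sub_self]

end functor

end GrothLib.FlatCx
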