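import Groth.Agent.Lib.FlatCx.Up
import Mathlib.RingTheory.Spectrum.Prime.Topology
import Mathlib.RingTheory.Flat.Localization

/-!
# Exactness loci of bounded below complexes
-/

universe u

noncomputable section

namespace GrothLib.FlatCx

open CategoryTheory CategoryTheory.Limits TensorProduct

variable {A : Type u} [CommRing A] (P : ChainComplex (ModuleCat.{u} A) ℤ)
  [∀ i, Module.Flat A (P.X i)] {i₀ : ℤ} (hb : ∀ i < i₀, IsZero (P.X i))

omit [∀ i, Module.Flat A (P.X i)] in
include hb in
theorem subsingleton_ker_of_lt {q : ℤ} (hq : q < i₀) :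
    Subsingleton (LinearMap.ker (dBar P q)) := by
  haveI : Subsingleton (P.X q) := ModuleCat.subsingleton_of_isZero (hb q hq)
  haveI : Subsingleton (cokIn P q) := inferInstance
  infer_instance

omit [∀ i, Module.Flat A (P.X i)] in
theorem finitePresentation_ker [hfp : ∀ n, Module.FinitePresentation A
    (CohIII.T P n (ModuleCat.of A A))] (q : ℤ) :
    Module.FinitePresentation A (LinearMap.ker (dBar P q)) :=
  Module.FinitePresentation.of_equiv (TUnitKerEquiv P q)

include hb in
/-- Base change to a flat algebra over which the kernels become flat. -/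
theorem exact_upTo_bcCx (B : Type u) [CommRing B] [Algebra A B] [Module.Flat A B] (p : ℤ)
    (h : ∀ q ≤ p, i₀ ≤ q → Module.Flat B (B ⊗[A] LinearMap.ker (dBar P q))) :
    ∀ q ≤ p, (CohIII.TFun (CohIII.bcCx (algebraMap A B) P) q).PreservesMonomorphisms ∧
      (CohIII.TFun (CohIII.bcCx (algebraMap A B) P) q).PreservesEpimorphisms := by
  haveI : ∀ j, Module.Flat B ((CohIII.bcCx (algebraMap A B) P).X j) := flat_bcCx_X P _
  refine exact_upTo_of_flat (CohIII.bcCx (algebraMap A B) P)
    (i₀ := i₀) (fun i hi => (ModuleCat.extendScalars (algebraMap A B)).map_isZero (hb i hi)) p fun q hq => ?_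
  obtain ⟨e⟩ := nonempty_ker_bcCx_equiv P B q
  rcases lt_or_ge q i₀ with h' | h'
  · haveI := subsingleton_ker_of_lt P hb h'
    haveI : Subsingleton (B ⊗[A] LinearMap.ker (dBar P q)) := inferInstance
    exact Module.Flat.of_linearEquiv e
  · haveI := h q hq h'
    exact Module.Flat.of_linearEquiv e

/-- The locus where the kernels `ker d̄_q`, `i₀ ≤ q ≤ N`, are free. -/
def goodLocus (i₀ N : ℤ) : Set (PrimeSpectrum A) :=
  ⋂ q ∈ (Finset.Icc i₀ N : Finset ℤ), Module.freeLocus A (LinearMap.ker (dBar P q))

omit [∀ i, Module.Flat A (P.X i)] in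
theorem isOpen_goodLocus [∀ n, Module.FinitePresentation A
    (CohIII.T P n (ModuleCat.of A A))] (i₀ N : ℤ) : IsOpen (goodLocus P i₀ N) :=
  isOpen_biInter_finset fun q _ =>
    haveI := finitePresentation_ker P q
    Module.isOpen_freeLocus

omit [∀ i, Module.Flat A (P.X i)] in
theorem minimal_mem_goodLocus [IsReduced A] (i₀ N : ℤ) (x : PrimeSpectrum A)
    (hx : x.asIdeal ∈ minimalPrimes A) : x ∈ goodLocus P i₀ N :=
  Set.mem_iInter₂.2 fun _ _ => minimal_mem_freeLocus _ x hx

omit [∀ i, Module.Flat A (P.X i)] in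
theorem dense_goodLocus [IsReduced A] (i₀ N : ℤ) : Dense (goodLocus P i₀ N) := by
  refine dense_iff_inter_open.2 fun U hU ⟨x, hx⟩ => ?_
  obtain ⟨q, hq, hqx⟩ := Ideal.exists_minimalPrimes_le (bot_le : (⊥ : Ideal A) ≤ x.asIdeal)
  exact ⟨⟨q, hq.1.1⟩, ((PrimeSpectrum.le_iff_specializes _ _).1 hqx).mem_open hU hx,
    minimal_mem_goodLocus P i₀ N ⟨q, hq.1.1⟩ hq⟩

include hb in
theorem dRank_eq_rankAtStalk [∀ n, Module.FinitePresentation A (CohIII.T P n (ModuleCat.of A A))]
    {N : ℤ} {x : PrimeSpectrum A} (hx : x ∈ goodLocus P i₀ N) {q : ℤ} (hq : q ≤ N) :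
    CohIII.dRank P q x = Module.rankAtStalk (LinearMap.ker (dBar P q)) x := by
  let B := Localization.AtPrime x.asIdeal
  haveI : Module.Flat A B := IsLocalization.flat B x.asIdeal.primeCompl
  have hfree : ∀ r ≤ N, Module.Free B (B ⊗[A] LinearMap.ker (dBar P r)) := by
    intro r hr
    rcases lt_or_ge r i₀ with h' | h'
    · haveI := subsingleton_ker_of_lt P hb h'
      infer_instance
    · exact (Module.mem_freeLocus_iff_tensor x B).1
        (Set.mem_iInter₂.1 hx r (Finset.mem_Icc.2 ⟨h', hr⟩))
  have hflat : ∀ r ≤ N, i₀ ≤ r → Module.Flat B (B ⊗[A] LinearMap.ker (dBar P r)) :=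
    fun r hr _ => by haveI := hfree r hr; infer_instance
  have hex := exact_upTo_bcCx P hb B N hflat
  haveI : ∀ j, Module.Flat B ((CohIII.bcCx (algebraMap A B) P).X j) := flat_bcCx_X P _
  obtain ⟨e⟩ := nonempty_ker_bcCx_equiv P B q
  haveI := hfree q hq
  haveI := finitePresentation_ker P q
  haveI : Module.Free B (LinearMap.ker (dBar (CohIII.bcCx (algebraMap A B) P) q)) :=
    Module.Free.of_equiv e.symm
  let y := IsLocalRing.closedPoint B
  have hy : PrimeSpectrum.comap (algebraMap A B) y = x :=
    PrimeSpectrum.ext (Localization.AtPrime.comap_maximalIdeal)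
  have h1 := dRank_bcCx P (algebraMap A B) q y
  rw [hy] at h1
  rw [← h1]
  refine (finrank_homology_bcCx_of_epi (CohIII.bcCx (algebraMap A B) P)
    (K := y.asIdeal.ResidueField) q (hex q hq).2).trans ?_
  rw [Module.finrank_baseChange, e.finrank_eq, Module.rankAtStalk]
  exact (LocalizedModule.equivTensorProduct x.asIdeal.primeCompl
    (LinearMap.ker (dBar P q))).finrank_eq.symm

include hb in
theorem isLocallyConstant_dRank_goodLocus [∀ n, Module.FinitePresentation A
    (CohIII.T P n (ModuleCat.of A A))] {N q : ℤ} (hq : q ≤ N) :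
    IsLocallyConstant (fun x : goodLocus P i₀ N => CohIII.dRank P q x) := by
  haveI := finitePresentation_ker P q
  have e : (fun x : goodLocus P i₀ N => CohIII.dRank P q x) =
      fun x : goodLocus P i₀ N => Module.rankAtStalk (LinearMap.ker (dBar P q)) x.1 :=
    funext fun x => dRank_eq_rankAtStalk P hb x.2 hq
  rw [e]
  rcases lt_or_ge q i₀ with h' | h'
  · haveI := subsingleton_ker_of_lt P hb h'
    simp only [Module.rankAtStalk_eq_zero_of_subsingleton]
    exact IsLocallyConstant.const _
  · exact (Module.isLocallyConstant_rankAtStalk_freeLocus (R := A)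
      (M := LinearMap.ker (dBar P q))).comp_continuous
      (f := fun x : goodLocus P i₀ N => (⟨x.1, Set.mem_iInter₂.1 x.2 q
        (Finset.mem_Icc.2 ⟨h', hq⟩)⟩ : Module.freeLocus A (LinearMap.ker (dBar P q))))
      (continuous_subtype_val.subtype_mk _)

omit [∀ i, Module.Flat A (P.X i)] in
/-- Finiteness for the base change to a quotient of `A`. -/
theorem finite_T_bcCx {B : Type u} [CommRing B] [Algebra A B] (q : ℤ)
    [h : Module.Finite A (CohIII.T P q (ModuleCat.of A B))] :
    Module.Finite B (CohIII.T (CohIII.bcCx (algebraMap A B) P) q (ModuleCat.of B B)) := by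
  haveI : Module.Finite A ((CohIII.tensorObj P (ModuleCat.of A B)).sc q).homology := h
  haveI : Module.Finite A (LinearMap.ker ((dBar P q).rTensor B)) :=
    Module.Finite.equiv (TKerEquiv P q (ModuleCat.of A B))
  let e := TensorProduct.comm A (cokIn P q) B
  let e' := TensorProduct.comm A (P.X ((ComplexShape.down ℤ).next q)) B
  have hc : ∀ x, (dBar P q).baseChange B (e x) = e' ((dBar P q).rTensor B x) := fun x => by
    induction x using TensorProduct.induction_on with
    | zero => simp
    | tmul a b => rfl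
    | add a b ha hb => simp only [map_add, ha, hb]
  let f : LinearMap.ker ((dBar P q).rTensor B) →ₗ[A] LinearMap.ker ((dBar P q).baseChange B) :=
    { toFun := fun x => ⟨e x.1, LinearMap.mem_ker.2 ((hc x.1).trans
        ((congrArg e' (LinearMap.mem_ker.1 x.2)).trans (map_zero e')))⟩
      map_add' := fun x y => Subtype.ext (map_add e x.1 y.1)
      map_smul' := fun a x => Subtype.ext (map_smul e a x.1) }
  haveI : Module.Finite A (LinearMap.ker ((dBar P q).baseChange B)) := by
    refine Module.Finite.of_surjective f fun y => ⟨⟨e.symm y.1, LinearMap.mem_ker.2 ?_⟩,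
      Subtype.ext (e.apply_symm_apply _)⟩
    apply e'.injective
    rw [← hc, e.apply_symm_apply, map_zero]
    exact y.2
  haveI : Module.Finite B (LinearMap.ker ((dBar P q).baseChange B)) :=
    Module.Finite.of_restrictScalars_finite A _ _
  obtain ⟨e1⟩ := nonempty_homology_bcCx_equiv P q (B := B)
  exact Module.Finite.equiv ((TUnitIso (CohIII.bcCx (algebraMap A B) P) q).toLinearEquiv ≪≫ₗ e1).symm

end GrothLib.FlatCx
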